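import Groth.Agent.CMCat.ComplQuot
import Groth.Agent.S19461
import Groth.Agent.S0547
import Groth.Agent.S0548
import Groth.Agent.S9249
import Groth.Agent.S9231
import Groth.Agent.S2644
import Groth.Agent.S2645
import Groth.Agent.S9438
import Groth.Agent.FlatDepth.Fibres
import Groth.Agent.HLVTLib.Excellent

/-! Local homomorphisms inducing an isomorphism of completions. -/

set_option autoImplicit false
universe u

open IsLocalRing
open scoped TensorProduct

namespace Groth.Agent.AnStalkLib

open Groth.Agent.CMCat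

section Basic

variable {A B C : Type u} [CommRing A] [CommRing B] [CommRing C]

theorem levelHom_apply (φ : A →+* B) (I : Ideal A) (J : Ideal B) (h : I.map φ ≤ J) (n : ℕ)
    (x : AdicCompletion I A) (a : A) (ha : AdicCompletion.evalₐ I n x = Ideal.Quotient.mk (I ^ n) a) :
    levelHom φ I J h n x = Ideal.Quotient.mk (J ^ n) (φ a) := by
  simp only [levelHom, RingHom.comp_apply, AlgHom.toRingHom_eq_coe, RingHom.coe_coe, ha, Ideal.quotientMap_mk]

theorem complHom_comp (φ : A →+* B) (ψ : B →+* C) (I : Ideal A) (J : Ideal B) (K : Ideal C)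
    (h : I.map φ ≤ J) (h' : J.map ψ ≤ K) (h'' : I.map (ψ.comp φ) ≤ K) :
    (complHom ψ J K h').comp (complHom φ I J h) = complHom (ψ.comp φ) I K h'' := by
  refine RingHom.ext fun x => AdicCompletion.ext_evalₐ fun n => ?_
  obtain ⟨a, ha⟩ := Ideal.Quotient.mk_surjective (AdicCompletion.evalₐ I n x)
  rw [RingHom.comp_apply, evalₐ_complHom, evalₐ_complHom, levelHom_apply _ _ _ _ n x a ha.symm,
    levelHom_apply ψ J K h' n _ (φ a) (by rw [evalₐ_complHom, levelHom_apply _ _ _ _ n x a ha.symm])]
  rfl

theorem complHom_congr {φ φ' : A →+* B} (e : φ = φ') (I : Ideal A) (J : Ideal B) (h : I.map φ ≤ J)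
    (h' : I.map φ' ≤ J) : complHom φ I J h = complHom φ' I J h' := by
  subst e; rfl

end Basic

variable {R S : Type u} [CommRing R] [CommRing S] [IsLocalRing R] [IsLocalRing S]

/-- The maximal ideal generates the maximal ideal and all quotients by its powers agree. -/
structure SameCompl (φ : R →+* S) : Prop where
  map_max : (maximalIdeal R).map φ = maximalIdeal S
  approx : ∀ n b, ∃ a, φ a - b ∈ maximalIdeal S ^ n
  inj : ∀ n a, φ a ∈ maximalIdeal S ^ n → a ∈ maximalIdeal R ^ n

namespace SameCompl

variable {φ : R →+* S} (hφ : SameCompl φ)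

/-- The map of completions. -/
noncomputable def cpl : AdicCompletion (maximalIdeal R) R →+* AdicCompletion (maximalIdeal S) S :=
  complHom φ (maximalIdeal R) (maximalIdeal S) hφ.map_max.le

theorem cpl_comp : hφ.cpl.comp (algebraMap R (AdicCompletion (maximalIdeal R) R)) =
    (algebraMap S (AdicCompletion (maximalIdeal S) S)).comp φ :=
  RingHom.ext fun a => complHom_algebraMap φ _ _ hφ.map_max.le a

theorem cpl_bijective : Function.Bijective hφ.cpl := by
  refine ⟨?_, fun y => ?_⟩
  · rw [injective_iff_map_eq_zero]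
    intro x hx
    refine AdicCompletion.ext_evalₐ fun n => ?_
    obtain ⟨a, ha⟩ := Ideal.Quotient.mk_surjective (AdicCompletion.evalₐ (maximalIdeal R) n x)
    have h1 := congrArg (AdicCompletion.evalₐ (maximalIdeal S) n) hx
    rw [cpl, evalₐ_complHom, levelHom_apply _ _ _ _ n x a ha.symm, map_zero, Ideal.Quotient.eq_zero_iff_mem] at h1
    rw [← ha, map_zero, Ideal.Quotient.eq_zero_iff_mem]
    exact hφ.inj n a h1
  · induction y using AdicCompletion.induction_on with
    | h g =>
      choose a ha using fun n => hφ.approx n (g.1 n)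
      have hc : ∀ {k n : ℕ}, k ≤ n → a n - a k ∈ maximalIdeal R ^ k := by
        intro k n hkn
        refine hφ.inj k _ ?_
        rw [map_sub, show φ (a n) - φ (a k) = (φ (a n) - g.1 n) + (g.1 n - g.1 k) - (φ (a k) - g.1 k) by ring]
        exact sub_mem (add_mem (Ideal.pow_le_pow_right hkn (ha n)) (cauchy_sub_mem _ g hkn)) (ha k)
      let f : AdicCompletion.AdicCauchySequence (maximalIdeal R) R := ⟨a, fun {k n} hkn => by
        rw [SModEq.sub_mem, smul_eq_mul, Ideal.mul_top, ← neg_sub]
        exact (Submodule.neg_mem_iff _).2 (hc hkn)⟩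
      refine ⟨AdicCompletion.mk _ R f, AdicCompletion.ext_evalₐ fun n => ?_⟩
      rw [cpl, evalₐ_complHom, levelHom_mk, AdicCompletion.evalₐ_mk, Ideal.Quotient.mk_eq_mk_iff_sub_mem]
      exact ha n

/-- The isomorphism of completions. -/
noncomputable def equiv : AdicCompletion (maximalIdeal R) R ≃+* AdicCompletion (maximalIdeal S) S :=
  RingEquiv.ofBijective hφ.cpl hφ.cpl_bijective

variable [IsNoetherianRing R] [IsNoetherianRing S]

include hφ in
theorem isLocalHom : IsLocalHom φ :=
  ((local_hom_TFAE φ).out 0 2).mpr hφ.map_max.le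

include hφ in
theorem flat : φ.Flat := by
  letI := φ.toAlgebra
  haveI : IsLocalHom (algebraMap R S) := hφ.isLocalHom
  exact (Groth.Agent.S19461.result R S hφ.cpl hφ.cpl_comp hφ.cpl_bijective).1

include hφ in
theorem faithfullyFlat : letI := φ.toAlgebra; Module.FaithfullyFlat R S := by
  letI := φ.toAlgebra
  haveI : IsLocalHom (algebraMap R S) := hφ.isLocalHom
  haveI : Module.Flat R S := hφ.flat
  exact Module.FaithfullyFlat.of_flat_of_isLocalHom

include hφ in
theorem comap_map (I : Ideal R) : (I.map φ).comap φ = I := by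
  letI := φ.toAlgebra
  haveI := hφ.faithfullyFlat
  exact Ideal.comap_map_eq_self_of_faithfullyFlat (B := S) I

include hφ in
theorem ringKrullDim_eq : ringKrullDim R = ringKrullDim S := by
  rw [← Groth.Agent.S0547.result R, ← Groth.Agent.S0547.result S]
  exact ringKrullDim_eq_of_ringEquiv hφ.equiv

include hφ in
theorem isRegularLocalRing_iff : IsRegularLocalRing R ↔ IsRegularLocalRing S := by
  rw [Groth.Agent.S0548.result R, Groth.Agent.S0548.result S]
  exact ⟨fun h => IsRegularLocalRing.of_ringEquiv hφ.equiv, fun h => IsRegularLocalRing.of_ringEquiv hφ.equiv.symm⟩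

include hφ in
theorem isCohenMacaulay_iff : LocCoh.IsCohenMacaulayLocalRing R ↔ LocCoh.IsCohenMacaulayLocalRing S := by
  rw [Groth.Agent.S9249.result R, Groth.Agent.S9249.result S]
  exact ⟨fun h => haveI := h; CMCat.isCohenMacaulayLocalRing_of_ringEquiv hφ.equiv,
    fun h => haveI := h; CMCat.isCohenMacaulayLocalRing_of_ringEquiv hφ.equiv.symm⟩

end SameCompl

section Fibres

variable {A B : Type u} [CommRing A] [CommRing B] [Algebra A B]

theorem isRegularRing_fibre (h : CAlg.IsRegularHom A B) (p : Ideal A) [p.IsPrime] :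
    IsRegularRing (p.Fiber B) := by
  haveI := (h.2 p).1
  haveI : IsNoetherianRing (p.ResidueField ⊗[p.ResidueField] p.Fiber B) := isNoetherianRing_of_ringEquiv _
    (Algebra.TensorProduct.lid p.ResidueField (p.Fiber B)).toRingEquiv.symm
  haveI := (h.2 p).2 p.ResidueField (Module.Finite.self _)
  exact IsRegularRing.of_ringEquiv (R := p.ResidueField ⊗[p.ResidueField] p.Fiber B)
    (Algebra.TensorProduct.lid p.ResidueField (p.Fiber B)).toRingEquiv

/-- Regular in small dimension. -/
def RkLoc (k : ℕ) (R : Type u) [CommRing R] : Prop := ringKrullDim R ≤ k → IsRegularLocalRing R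

theorem hasRk_iff_rkLoc (k : ℕ) (R : Type u) [CommRing R] :
    LocCoh.HasRk k R ↔ ∀ (p : Ideal R) [p.IsPrime], RkLoc k (Localization.AtPrime p) := by
  refine forall_congr' fun p => forall_congr' fun _ => ?_
  rw [RkLoc, IsLocalization.AtPrime.ringKrullDim_eq_height p (Localization.AtPrime p),
    show ((k : ℕ) : WithBot ℕ∞) = (((k : ℕ∞)) : WithBot ℕ∞) from rfl, WithBot.coe_le_coe]

theorem rkLoc_ascend (k : ℕ) (A B : Type u) [CommRing A] [CommRing B] [IsLocalRing A] [IsLocalRing B]
    [IsNoetherianRing A] [IsNoetherianRing B] [Algebra A B] [IsLocalHom (algebraMap A B)] [Module.Flat A B]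
    (hA : RkLoc k A) (hF : RkLoc k (B ⧸ (maximalIdeal A).map (algebraMap A B))) : RkLoc k B := by
  intro hB
  have h04 : IsLocalHom (algebraMap A B) ↔ (maximalIdeal B).comap (algebraMap A B) = maximalIdeal A :=
    (local_hom_TFAE (algebraMap A B)).out 0 4
  haveI : (maximalIdeal B).LiesOver (maximalIdeal A) := ⟨(h04.mp inferInstance).symm⟩
  haveI : IsRegularLocalRing A := hA (by
    rw [← maximalIdeal_height_eq_ringKrullDim] at hB ⊢
    refine le_trans (WithBot.coe_le_coe.2 ?_) hB
    rw [Ideal.height_eq_height_add_of_liesOver_of_hasGoingDown (maximalIdeal A) (maximalIdeal B)]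
    exact le_self_add)
  haveI : IsRegularLocalRing (B ⧸ (maximalIdeal A).map (algebraMap A B)) :=
    hF ((ringKrullDim_quotient_le _).trans hB)
  exact Groth.Agent.RegHomLib.isRegularLocalRing_of_fibre A B

theorem hasRk_ascend (k : ℕ) [IsNoetherianRing A] [IsNoetherianRing B] (h : CAlg.IsRegularHom A B)
    (hA : LocCoh.HasRk k A) : LocCoh.HasRk k B := by
  haveI := h.1
  rw [hasRk_iff_rkLoc] at hA ⊢
  exact FlatDepth.forall_localization_of_fibres (P := fun R [CommRing R] => RkLoc k R)
    (fun A B _ _ _ _ _ _ _ _ _ => rkLoc_ascend k A B)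
    (fun A B _ _ _ e h hd => by
      haveI := h ((ringKrullDim_eq_of_ringEquiv e).trans_le hd)
      exact IsRegularLocalRing.of_ringEquiv e) A B (fun p _ => hA p)
    (fun p _ Q _ _ => haveI := (h.2 p).1; isRegularRing_iff.mp (isRegularRing_fibre h p) Q)

theorem hasRk_of_ringEquiv (k : ℕ) {A B : Type u} [CommRing A] [CommRing B] [IsNoetherianRing B] (e : A ≃+* B)
    (h : LocCoh.HasRk k B) : LocCoh.HasRk k A := by
  letI : Algebra A B := (e : A →+* B).toAlgebra
  haveI : Module.FaithfullyFlat A B := Module.FaithfullyFlat.of_linearEquiv A A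
    (AlgEquiv.ofRingEquiv (f := e) (fun _ => rfl) : A ≃ₐ[A] B).toLinearEquiv.symm
  exact (Groth.Agent.S9438.result k A B h).2

end Fibres

namespace SameCompl

variable {φ : R →+* S} (hφ : SameCompl φ) [IsNoetherianRing R] [IsNoetherianRing S]

include hφ in
theorem hasSk_iff (hR : CAlg.IsRegularHom R (EGA4.Cpl R)) (n : ℕ) : LocCoh.HasSk n R R ↔ LocCoh.HasSk n S S := by
  letI := φ.toAlgebra
  haveI := hφ.faithfullyFlat
  refine ⟨fun h => ?_, fun h => (Groth.Agent.S9437.result n R S h).2⟩
  haveI := RegLocal.isNoetherianRing_completion R (maximalIdeal R)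
  haveI := RegLocal.isNoetherianRing_completion S (maximalIdeal S)
  haveI := RegLocal.faithfullyFlat_completion S _ (maximalIdeal.isMaximal S).ne_top
  haveI := hR.1
  have h1 : LocCoh.HasSk n (EGA4.Cpl R) (EGA4.Cpl R) := FlatDepth.hasSk_ascend n R (EGA4.Cpl R) h fun p _ =>
    (FlatDepth.hasSk_iff n _).2 fun Q _ => by
      haveI := FlatDepth.cm_fibres_of_isRegularHom hR p
      haveI := (hR.2 p).1
      haveI : IsNoetherianRing (Localization.AtPrime Q) := IsLocalization.isNoetherianRing Q.primeCompl _ inferInstance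
      refine ⟨inferInstance, ?_⟩
      haveI := LocCoh.IsCohenMacaulayRing.isCohenMacaulayLocalRing_localization (R := p.Fiber (EGA4.Cpl R)) Q
      exact le_trans (min_le_right _ _) ((Module.supportDim_self_eq_ringKrullDim (R := Localization.AtPrime Q)).symm.trans
        (LocCoh.IsCohenMacaulayLocalRing.supportDim_eq_depth (R := Localization.AtPrime Q))).le
  exact (Groth.Agent.S9437.result n S (EGA4.Cpl S) (FlatDepth.hasSk_of_ringEquiv hφ.equiv h1)).2

include hφ in
theorem hasRk_iff (hR : CAlg.IsRegularHom R (EGA4.Cpl R)) (n : ℕ) : LocCoh.HasRk n R ↔ LocCoh.HasRk n S := by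
  letI := φ.toAlgebra
  haveI := hφ.faithfullyFlat
  refine ⟨fun h => ?_, fun h => (Groth.Agent.S9438.result n R S h).2⟩
  haveI := RegLocal.isNoetherianRing_completion R (maximalIdeal R)
  haveI := RegLocal.isNoetherianRing_completion S (maximalIdeal S)
  haveI := RegLocal.faithfullyFlat_completion S _ (maximalIdeal.isMaximal S).ne_top
  exact (Groth.Agent.S9438.result n S (EGA4.Cpl S) (hasRk_of_ringEquiv n hφ.equiv.symm (hasRk_ascend n hR h))).2

include hφ in
theorem normal_iff (hR : CAlg.IsRegularHom R (EGA4.Cpl R)) :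
    (IsDomain R ∧ IsIntegrallyClosed R) ↔ (IsDomain S ∧ IsIntegrallyClosed S) := by
  letI := φ.toAlgebra
  haveI := hφ.faithfullyFlat
  have key : ∀ (T : Type u) [CommRing T] [IsLocalRing T], EGA4.IsNormalRing T → IsDomain T ∧ IsIntegrallyClosed T := by
    intro T _ _ hT
    haveI : IsLocalization (maximalIdeal T).primeCompl T := IsLocalization.self fun x hx => notMem_maximalIdeal.mp hx
    haveI := (hT (maximalIdeal T)).1
    haveI : IsDomain T := (IsLocalization.algEquiv (maximalIdeal T).primeCompl T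
      (Localization.AtPrime (maximalIdeal T))).toRingEquiv.injective.isDomain
    exact ⟨inferInstance, NormalTensor.isIntegrallyClosed_of_isNormalRing hT⟩
  refine ⟨fun ⟨_, _⟩ => key S ?_, fun ⟨_, _⟩ => key R
    (NormalTensor.isNormalRing_of_faithfullyFlat R S (NormalTensor.isNormalRing_of_domain S))⟩
  haveI := RegLocal.faithfullyFlat_completion S _ (maximalIdeal.isMaximal S).ne_top
  have hfib : EGA4.HasGeomNormalFormalFibres R := fun p _ k' _ _ hk' =>
    haveI := (hR.2 p).2 k' hk'
    HLVTLib.isNormalRing_of_regular _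
  exact NormalTensor.isNormalRing_of_faithfullyFlat S (EGA4.Cpl S)
    (NormalTensor.isNormalRing_of_ringEquiv hφ.equiv ((Groth.Agent.S2644.result R hfib).1 (NormalTensor.isNormalRing_of_domain R)))

end SameCompl

section Square

variable {R' S' : Type u} [CommRing R'] [CommRing S'] [IsLocalRing R'] [IsLocalRing S']
  {φ : R →+* S} {φ' : R' →+* S'} {f : R →+* R'} {g : S →+* S'}

theorem map_max_le_of_square (hφ : SameCompl φ) (hφ' : SameCompl φ') (h : φ'.comp f = g.comp φ)
    (hf : (maximalIdeal R).map f ≤ maximalIdeal R') : (maximalIdeal S).map g ≤ maximalIdeal S' := by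
  rw [← hφ.map_max, ← hφ'.map_max, Ideal.map_map, ← h, ← Ideal.map_map]
  exact Ideal.map_mono hf

theorem map_max_eq_iff_of_square [IsNoetherianRing R'] [IsNoetherianRing S'] (hφ : SameCompl φ)
    (hφ' : SameCompl φ') (h : φ'.comp f = g.comp φ) :
    (maximalIdeal S).map g = maximalIdeal S' ↔ (maximalIdeal R).map f = maximalIdeal R' := by
  rw [← hφ.map_max, ← hφ'.map_max, Ideal.map_map, ← h, ← Ideal.map_map]
  refine ⟨fun e => ?_, fun e => by rw [e]⟩
  rw [← hφ'.comap_map ((maximalIdeal R).map f), e, hφ'.comap_map]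

theorem flat_iff_of_square [IsNoetherianRing R] [IsNoetherianRing S] [IsNoetherianRing R'] [IsNoetherianRing S']
    (hφ : SameCompl φ) (hφ' : SameCompl φ') (h : φ'.comp f = g.comp φ) [IsLocalHom f] :
    g.Flat ↔ f.Flat := by
  have h02 : IsLocalHom f ↔ (maximalIdeal R).map f ≤ maximalIdeal R' := (local_hom_TFAE f).out 0 2
  have hf : (maximalIdeal R).map f ≤ maximalIdeal R' := h02.mp inferInstance
  have hg := map_max_le_of_square hφ hφ' h hf
  haveI hgl : IsLocalHom g := ((local_hom_TFAE g).out 0 2).mpr hg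
  let Fc := complHom f (maximalIdeal R) (maximalIdeal R') hf
  let Gc := complHom g (maximalIdeal S) (maximalIdeal S') hg
  have hsq : hφ'.cpl.comp Fc = Gc.comp hφ.cpl := by
    have e1 : (maximalIdeal R).map (φ'.comp f) ≤ maximalIdeal S' := by
      rw [← Ideal.map_map, ← hφ'.map_max]; exact Ideal.map_mono hf
    rw [SameCompl.cpl, SameCompl.cpl, complHom_comp f φ' _ _ _ hf _ e1,
      complHom_comp φ g _ _ _ _ hg (h ▸ e1)]
    exact complHom_congr h _ _ _ _
  have h1 : Fc.Flat ↔ f.Flat := by
    letI := f.toAlgebra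
    haveI : IsLocalHom (algebraMap R R') := ‹_›
    exact Groth.Agent.S9231.result R R' Fc (RingHom.ext fun a => complHom_algebraMap f _ _ hf a)
  have h2 : Gc.Flat ↔ g.Flat := by
    letI := g.toAlgebra
    haveI : IsLocalHom (algebraMap S S') := hgl
    exact Groth.Agent.S9231.result S S' Gc (RingHom.ext fun a => complHom_algebraMap g _ _ hg a)
  rw [← h1, ← h2]
  constructor
  · intro hG
    have h3 : (hφ'.cpl.comp Fc).Flat := by
      rw [hsq]; exact RingHom.Flat.comp (RingHom.Flat.of_bijective hφ.cpl_bijective) hG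
    have h4 := RingHom.Flat.comp h3 (RingHom.Flat.of_bijective hφ'.equiv.symm.bijective (f := hφ'.equiv.symm.toRingHom))
    rwa [show hφ'.equiv.symm.toRingHom.comp (hφ'.cpl.comp Fc) = Fc from
      RingHom.ext fun x => hφ'.equiv.symm_apply_apply (Fc x)] at h4
  · intro hF
    have h3 : (Gc.comp hφ.cpl).Flat := by
      rw [← hsq]; exact RingHom.Flat.comp hF (RingHom.Flat.of_bijective hφ'.cpl_bijective)
    have h4 := RingHom.Flat.comp (RingHom.Flat.of_bijective hφ.equiv.symm.bijective (f := hφ.equiv.symm.toRingHom)) h3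
    rwa [show (Gc.comp hφ.cpl).comp hφ.equiv.symm.toRingHom = Gc from
      RingHom.ext fun x => congrArg Gc (hφ.equiv.apply_symm_apply x)] at h4

end Square

end Groth.Agent.AnStalkLib
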