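import Mathlib

/-! Complex differentiable functions of several variables are sums of their power series, with Cauchy's bounds. -/

set_option autoImplicit false

open Filter Topology Metric MeasureTheory

namespace Groth.Agent.AnStalkLib

noncomputable section

/-- The bound on the differential given by the bound on the function. -/
theorem norm_fderiv_le {m : ℕ} {G : (Fin m → ℂ) → ℂ} {p : Fin m → ℂ} {ε R' M : ℝ} (hε : 0 < ε) (hM : 0 ≤ M)
    (hd : DifferentiableOn ℂ G (ball 0 R')) (hb : ∀ z ∈ ball (0 : Fin m → ℂ) R', ‖G z‖ ≤ M)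
    (hp : ‖p‖ + ε < R') : ‖fderiv ℂ G p‖ ≤ M / ε := by
  refine ContinuousLinearMap.opNorm_le_bound _ (div_nonneg hM hε.le) fun v => ?_
  rcases eq_or_ne v 0 with rfl | hv
  · simp
  have hv' : 0 < ‖v‖ := norm_pos_iff.2 hv
  have hmem : ∀ t : ℂ, ‖t‖ ≤ ε / ‖v‖ → p + t • v ∈ ball (0 : Fin m → ℂ) R' := fun t ht => by
    rw [mem_ball_zero_iff]
    refine (norm_add_le _ _).trans_lt ?_
    rw [norm_smul]
    calc ‖p‖ + ‖t‖ * ‖v‖ ≤ ‖p‖ + ε / ‖v‖ * ‖v‖ := by gcongr
      _ = ‖p‖ + ε := by rw [div_mul_cancel₀ _ hv'.ne']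
      _ < R' := hp
  have hline : ∀ t : ℂ, ‖t‖ ≤ ε / ‖v‖ → HasDerivAt (fun t : ℂ => G (p + t • v)) (fderiv ℂ G (p + t • v) v) t := by
    intro t ht
    have h1 : HasDerivAt (fun t : ℂ => p + t • v) v t := by
      simpa using ((hasDerivAt_id t).smul_const v).const_add p
    exact (hd.differentiableAt (isOpen_ball.mem_nhds (hmem t ht))).hasFDerivAt.comp_hasDerivAt t h1
  have hdc : DiffContOnCl ℂ (fun t : ℂ => G (p + t • v)) (ball 0 (ε / ‖v‖)) := by
    refine DifferentiableOn.diffContOnCl fun t ht => ?_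
    rw [closure_ball _ (div_pos hε hv').ne', mem_closedBall_zero_iff] at ht
    exact (hline t ht).differentiableAt.differentiableWithinAt
  have h2 := Complex.norm_deriv_le_of_forall_mem_sphere_norm_le (div_pos hε hv') hdc
    (fun t ht => hb _ (hmem t (mem_sphere_zero_iff_norm.1 ht).le))
  rw [(hline 0 (by simpa using (div_pos hε hv').le)).deriv] at h2
  simp only [zero_smul, add_zero] at h2
  calc _ ≤ M / (ε / ‖v‖) := h2
    _ = M / ε * ‖v‖ := by field_simp

/-- The monomial with exponents `α`. -/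
def mon {n : ℕ} (α : Fin n →₀ ℕ) (z : Fin n → ℂ) : ℂ := ∏ i, z i ^ α i

/-- The exponents of the first variable and of the others. -/
def consEquiv (n : ℕ) : ℕ × (Fin n →₀ ℕ) ≃ (Fin (n + 1) →₀ ℕ) where
  toFun x := Finsupp.cons x.1 x.2
  invFun α := (α 0, Finsupp.tail α)
  left_inv x := by simp
  right_inv α := Finsupp.cons_tail α

theorem summable_geometric : ∀ (n : ℕ) (t : Fin n → ℝ), (∀ i, 0 ≤ t i ∧ t i < 1) →
    Summable fun α : Fin n →₀ ℕ => ∏ i, t i ^ α i
  | 0, t, _ => .of_finite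
  | n + 1, t, ht => by
    rw [← (consEquiv n).summable_iff]
    refine ((summable_geometric_of_lt_one (ht 0).1 (ht 0).2).mul_of_nonneg (summable_geometric n (fun i => t i.succ) fun i => ht _)
      (fun k => pow_nonneg (ht 0).1 _) fun β => Finset.prod_nonneg fun i _ => pow_nonneg (ht _).1 _).congr fun x => ?_
    simp [consEquiv, Fin.prod_univ_succ]

/-- A function bounded by `M` and differentiable on a polydisc is the sum of a series with Cauchy's bounds. -/
theorem exists_series : ∀ (n : ℕ) (G : (Fin n → ℂ) → ℂ) (R R' M : ℝ), 0 < R → R < R' → 0 ≤ M →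
    DifferentiableOn ℂ G (ball 0 R') → (∀ z ∈ ball (0 : Fin n → ℂ) R', ‖G z‖ ≤ M) →
    ∃ a : (Fin n →₀ ℕ) → ℂ, (∀ α, ‖a α‖ ≤ M * ∏ i, (R⁻¹) ^ α i) ∧
      ∀ z ∈ ball (0 : Fin n → ℂ) R, HasSum (fun α => a α * mon α z) (G z)
  | 0, G, R, R', M, hR, hRR', _, _, hb => by
    refine ⟨fun _ => G 0, fun α => ?_, fun z _ => ?_⟩
    · simpa using hb 0 (mem_ball_self (hR.trans hRR'))
    · rw [show z = 0 from Subsingleton.elim _ _]
      simpa [mon] using hasSum_unique fun _ : Fin 0 →₀ ℕ => G 0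
  | n + 1, G, R, R', M, hR, hRR', hM, hd, hb => by
    have hR' : 0 < R' := hR.trans hRR'
    let c : ℕ → (Fin n → ℂ) → ℂ := fun k w =>
      (2 * Real.pi * Complex.I : ℂ)⁻¹ • ∮ ζ in C(0, R), (ζ ^ (k + 1))⁻¹ * G (Fin.cons ζ w)
    let L : (Fin n → ℂ) →L[ℂ] (Fin (n + 1) → ℂ) :=
      ContinuousLinearMap.pi (Fin.cons 0 fun i => ContinuousLinearMap.proj (R := ℂ) (φ := fun _ : Fin n => ℂ) i)
    have hcons : ∀ (ζ : ℂ) (w : Fin n → ℂ), (Fin.cons ζ w : Fin (n + 1) → ℂ) = L w + Fin.cons ζ 0 := fun ζ w => by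
      ext i; refine Fin.cases ?_ (fun j => ?_) i <;> simp [L]
    have hnorm : ∀ (ζ : ℂ) (w : Fin n → ℂ) (r : ℝ), 0 ≤ r → ‖ζ‖ ≤ r → ‖w‖ ≤ r → ‖(Fin.cons ζ w : Fin (n + 1) → ℂ)‖ ≤ r := by
      intro ζ w r hr h1 h2
      exact (pi_norm_le_iff_of_nonneg hr).2 (Fin.cases (by simpa using h1) fun j => by simpa using (norm_le_pi_norm w j).trans h2)
    have hmem : ∀ (ζ : ℂ) (w : Fin n → ℂ), ‖ζ‖ ≤ R → w ∈ ball (0 : Fin n → ℂ) R' →
        (Fin.cons ζ w : Fin (n + 1) → ℂ) ∈ ball (0 : Fin (n + 1) → ℂ) R' := fun ζ w h1 h2 => by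
      rw [mem_ball_zero_iff] at h2 ⊢
      exact (hnorm ζ w (max R ‖w‖) (le_max_of_le_left hR.le) (h1.trans (le_max_left _ _)) (le_max_right _ _)).trans_lt
        (max_lt hRR' h2)
    have hbound : ∀ k, ∀ w ∈ ball (0 : Fin n → ℂ) R', ‖c k w‖ ≤ M * R⁻¹ ^ k := fun k w hw => by
      refine (circleIntegral.norm_two_pi_i_inv_smul_integral_le_of_norm_le_const (C := M / R ^ (k + 1)) hR.le fun ζ hζ => ?_).trans (le_of_eq ?_)
      · have hζ' := mem_sphere_zero_iff_norm.1 hζ
        rw [norm_mul, norm_inv, norm_pow, hζ', div_eq_inv_mul]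
        exact mul_le_mul_of_nonneg_left (hb _ (hmem ζ w hζ'.le hw)) (by positivity)
      · rw [inv_pow, pow_succ]; field_simp
    have hdiff : ∀ k, DifferentiableOn ℂ (c k) (ball 0 R') := by
      intro k w₀ hw₀
      refine DifferentiableAt.differentiableWithinAt ?_
      refine DifferentiableAt.const_smul ?_ ((2 * Real.pi * Complex.I : ℂ)⁻¹)
      rw [mem_ball_zero_iff] at hw₀
      obtain ⟨δ, hδ, hδR, hδw⟩ : ∃ δ : ℝ, 0 < δ ∧ R + δ < R' ∧ ‖w₀‖ + δ + δ < R' :=
        ⟨min (R' - R) (R' - ‖w₀‖) / 3, div_pos (lt_min (sub_pos.2 hRR') (sub_pos.2 hw₀)) three_pos,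
          by linarith [min_le_left (R' - R) (R' - ‖w₀‖), sub_pos.2 hRR'],
          by linarith [min_le_right (R' - R) (R' - ‖w₀‖), sub_pos.2 hw₀]⟩
      let γ : ℝ → ℂ := circleMap 0 R
      have hγ : ∀ θ, ‖γ θ‖ = R := fun θ => by simp [γ, hR.le, abs_of_pos hR]
      let F : (Fin n → ℂ) → ℝ → ℂ := fun w θ => deriv γ θ • ((γ θ ^ (k + 1))⁻¹ * G (Fin.cons (γ θ) w))
      let F' : (Fin n → ℂ) → ℝ → (Fin n → ℂ) →L[ℂ] ℂ := fun w θ =>
        (deriv γ θ * (γ θ ^ (k + 1))⁻¹) • ((fderiv ℂ G (Fin.cons (γ θ) w)).comp L)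
      have hin : ∀ θ, ∀ w ∈ ball w₀ δ, ‖(Fin.cons (γ θ) w : Fin (n + 1) → ℂ)‖ + δ < R' := by
        intro θ w hw
        have : ‖w‖ < ‖w₀‖ + δ := by
          rw [mem_ball_iff_norm] at hw
          linarith [norm_le_insert' w w₀]
        have := hnorm (γ θ) w (max R ‖w‖) (le_max_of_le_left hR.le) ((hγ θ).le.trans (le_max_left _ _)) (le_max_right _ _)
        rcases max_choice R ‖w‖ with h | h <;> rw [h] at this <;> linarith
      have hγc : Continuous γ := continuous_circleMap 0 R
      have hdγ : Continuous (deriv γ) := by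
        rw [show deriv γ = fun θ => circleMap 0 R θ * Complex.I from funext fun θ => deriv_circleMap 0 R θ]
        exact (continuous_circleMap 0 R).mul continuous_const
      have hcinv : Continuous fun θ => (γ θ ^ (k + 1))⁻¹ :=
        (hγc.pow _).inv₀ fun θ => pow_ne_zero _ (by rw [← norm_pos_iff, hγ]; exact hR)
      have hFc : ∀ w ∈ ball w₀ δ, Continuous (F w) := fun w hw => by
        refine hdγ.smul (hcinv.mul ?_)
        refine hd.continuousOn.comp_continuous ?_ fun θ => mem_ball_zero_iff.2 (by linarith [hin θ w hw])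
        exact continuous_pi (Fin.cases (by simpa using hγc) fun j => by simpa using continuous_const)
      have hcomp : Continuous fun θ => (Fin.cons (γ θ) w₀ : Fin (n + 1) → ℂ) :=
        continuous_pi (Fin.cases (by simpa using hγc) fun j => by simpa using continuous_const)
      have hF'meas : AEStronglyMeasurable (F' w₀) (volume.restrict (Set.uIoc 0 (2 * Real.pi))) := by
        have hs : StronglyMeasurable fun θ => fderiv ℂ G (Fin.cons (γ θ) w₀) :=
          ((measurable_fderiv ℂ G).comp hcomp.measurable).stronglyMeasurable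
        exact ((hdγ.mul hcinv).stronglyMeasurable.smul
          (((ContinuousLinearMap.compL ℂ (Fin n → ℂ) (Fin (n + 1) → ℂ) ℂ).flip L).continuous.comp_stronglyMeasurable hs)).aestronglyMeasurable
      have hD : HasFDerivAt (fun w => ∫ θ in (0 : ℝ)..2 * Real.pi, F w θ) (∫ θ in (0 : ℝ)..2 * Real.pi, F' w₀ θ) w₀ := by
        refine intervalIntegral.hasFDerivAt_integral_of_dominated_of_fderiv_le
          (bound := fun θ => ‖deriv γ θ * (γ θ ^ (k + 1))⁻¹‖ * (M / δ * ‖L‖)) (ball_mem_nhds w₀ hδ)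
          (eventually_of_mem (ball_mem_nhds w₀ hδ) fun w hw => (hFc w hw).aestronglyMeasurable)
          ((hFc w₀ (mem_ball_self hδ)).intervalIntegrable _ _) hF'meas
          (Eventually.of_forall fun θ _ w hw => ?_)
          ((((hdγ.mul hcinv).norm).mul continuous_const).intervalIntegrable _ _) (Eventually.of_forall fun θ _ w hw => ?_)
        · simp only [F', norm_smul]
          gcongr
          exact (ContinuousLinearMap.opNorm_comp_le _ _).trans
            (mul_le_mul_of_nonneg_right (norm_fderiv_le hδ hM hd hb (hin θ w hw)) (norm_nonneg _))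
        · have h1 : HasFDerivAt (fun w : Fin n → ℂ => (Fin.cons (γ θ) w : Fin (n + 1) → ℂ)) L w := by
            rw [show (fun w : Fin n → ℂ => (Fin.cons (γ θ) w : Fin (n + 1) → ℂ)) = fun w => L w + Fin.cons (γ θ) 0 from funext (hcons _)]
            exact L.hasFDerivAt.add_const _
          have h2 := (hd.differentiableAt (isOpen_ball.mem_nhds
            (mem_ball_zero_iff.2 (by linarith [hin θ w hw])))).hasFDerivAt.comp w h1
          simp only [F, F', smul_eq_mul, ← mul_assoc]
          exact h2.const_mul _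
      exact hD.differentiableAt
    choose a ha hsum using fun k => exists_series n (c k) R R' (M * R⁻¹ ^ k) hR hRR' (by positivity) (hdiff k) (hbound k)
    refine ⟨fun α => a (α 0) (Finsupp.tail α), fun α => ?_, fun z hz => ?_⟩
    · refine (ha _ _).trans (le_of_eq ?_)
      rw [Fin.prod_univ_succ (f := fun i => R⁻¹ ^ α i), ← mul_assoc]
      rfl
    rw [mem_ball_zero_iff] at hz
    have hz0 : ‖z 0‖ < R := (norm_le_pi_norm z 0).trans_lt hz
    have hw : (Fin.tail z) ∈ ball (0 : Fin n → ℂ) R :=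
      mem_ball_zero_iff.2 (((pi_norm_le_iff_of_nonneg (norm_nonneg z)).2 fun (i : Fin n) => norm_le_pi_norm z i.succ).trans_lt hz)
    have hw' : Fin.tail z ∈ ball (0 : Fin n → ℂ) R' := ball_subset_ball hRR'.le hw
    have h1 : HasSum (fun k => z 0 ^ k * c k (Fin.tail z)) (G z) := by
      have hfd : DifferentiableOn ℂ (fun ζ : ℂ => G (Fin.cons ζ (Fin.tail z))) (closedBall 0 R) := fun ζ hζ => by
        have hd1 : DifferentiableAt ℂ (fun ζ : ℂ => (Fin.cons ζ (Fin.tail z) : Fin (n + 1) → ℂ)) ζ :=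
          differentiableAt_pi.2 (Fin.cases (by simp) fun j => by simp)
        exact ((hd.differentiableAt (isOpen_ball.mem_nhds (hmem ζ _ (mem_closedBall_zero_iff.1 hζ) hw'))).comp ζ hd1).differentiableWithinAt
      have hcint : CircleIntegrable (fun ζ : ℂ => G (Fin.cons ζ (Fin.tail z))) 0 R :=
        (hfd.continuousOn.mono sphere_subset_closedBall).circleIntegrable hR.le
      have h2 := (hasSum_two_pi_I_cauchyPowerSeries_integral hcint hz0).const_smul ((2 * Real.pi * Complex.I : ℂ)⁻¹)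
      rw [zero_add, Complex.circleIntegral_sub_inv_smul_of_differentiable_on_off_countable Set.countable_empty
        (mem_ball_zero_iff.2 hz0) hfd.continuousOn
        (fun x hx => hfd.differentiableAt (closedBall_mem_nhds_of_mem hx.1)), inv_smul_smul₀ (by simp [Real.pi_ne_zero])] at h2
      rw [Fin.cons_self_tail] at h2
      refine h2.congr_fun fun k => ?_
      simp only [c, sub_zero, smul_eq_mul]
      rw [mul_left_comm, ← circleIntegral.integral_const_mul]
      congr 1
      refine circleIntegral.integral_congr hR.le fun ζ _ => ?_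
      simp only [div_eq_mul_inv, mul_pow, inv_pow, pow_succ, mul_inv]
      ring
    have hnn : ∀ α : Fin (n + 1) →₀ ℕ, ‖a (α 0) (Finsupp.tail α) * mon α z‖ ≤ M * ∏ i, (‖z i‖ / R) ^ α i := fun α => by
      rw [norm_mul, mon, norm_prod]
      refine le_trans (mul_le_mul_of_nonneg_right (ha _ _) (by positivity)) (le_of_eq ?_)
      simp only [Fin.prod_univ_succ, Finsupp.tail_apply, norm_pow, div_eq_mul_inv, mul_pow, Finset.prod_mul_distrib]
      ring
    have hs : Summable fun α : Fin (n + 1) →₀ ℕ => a (α 0) (Finsupp.tail α) * mon α z :=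
      .of_norm_bounded ((summable_geometric (n + 1) (fun i => ‖z i‖ / R) fun i =>
        ⟨by positivity, (div_lt_one hR).2 ((norm_le_pi_norm z i).trans_lt hz)⟩).mul_left M) hnn
    have hs' := (consEquiv n).summable_iff.2 hs
    have h3 := hs'.hasSum.prod_fiberwise (g := fun k => z 0 ^ k * c k (Fin.tail z)) fun k => by
      refine ((hsum k _ hw).mul_left (z 0 ^ k)).congr_fun fun β => ?_
      simp only [Function.comp_apply, consEquiv, Equiv.coe_fn_mk, Finsupp.cons_zero, Finsupp.tail_cons, mon,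
        Fin.prod_univ_succ, Finsupp.cons_succ, Fin.tail]
      ring
    rw [← (consEquiv n).hasSum_iff, h1.unique h3]
    exact hs'.hasSum

/-- A monomial is bounded on the polydisc. -/
theorem norm_mon_le {n : ℕ} (α : Fin n →₀ ℕ) {z : Fin n → ℂ} {r : ℝ} (h : ‖z‖ ≤ r) :
    ‖mon α z‖ ≤ ∏ i, r ^ α i := by
  rw [mon, norm_prod]
  refine Finset.prod_le_prod (fun i _ => norm_nonneg _) fun i _ => ?_
  rw [norm_pow]
  exact pow_le_pow_left₀ (norm_nonneg _) ((norm_le_pi_norm z i).trans h) _

theorem differentiable_mon {n : ℕ} (α : Fin n →₀ ℕ) : Differentiable ℂ (mon α) := by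
  unfold mon
  fun_prop

/-- The sum of a series absolutely convergent on the polydisc of radius `r` is differentiable. -/
theorem differentiableOn_tsum_mon {n : ℕ} (a : (Fin n →₀ ℕ) → ℂ) {r : ℝ} (hr : 0 < r)
    (h : Summable fun α => ‖a α‖ * ∏ i, r ^ α i) :
    DifferentiableOn ℂ (fun z => ∑' α, a α * mon α z) (ball 0 (r / 2)) := by
  intro z hz
  refine DifferentiableAt.differentiableWithinAt (HasFDerivAt.differentiableAt
    (hasFDerivAt_tsum_of_isPreconnected (u := fun α => ‖a α‖ * (∏ i, r ^ α i) / (r / 4)) (f := fun α z => a α * mon α z)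
      (f' := fun α z => fderiv ℂ (fun w => a α * mon α w) z) (h.div_const _) isOpen_ball
      (convex_ball _ _).isPreconnected (fun α w _ => ((differentiable_mon α w).const_mul _).hasFDerivAt) (fun α w hw => ?_)
      (mem_ball_self (half_pos hr)) (Summable.of_norm_bounded h fun α => ?_) hz))
  · refine norm_fderiv_le (R' := r) (M := ‖a α‖ * ∏ i, r ^ α i) (by positivity) (by positivity)
      ((differentiable_mon α).const_mul _).differentiableOn (fun v hv => ?_) ?_
    · rw [norm_mul]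
      exact mul_le_mul_of_nonneg_left (norm_mon_le α (mem_ball_zero_iff.1 hv).le) (norm_nonneg _)
    · rw [mem_ball_zero_iff] at hw; linarith
  · rw [norm_mul]
    exact mul_le_mul_of_nonneg_left (norm_mon_le α (by simpa using hr.le)) (norm_nonneg _)

end

end Groth.Agent.AnStalkLib
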