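import Mathlib
import Groth.Agent.AnStalkLib.Cauchy

/-! Weierstrass division for convergent power series, by a weighted estimate. -/

set_option autoImplicit false

open Finset MvPowerSeries
open scoped ENNReal

namespace Groth.Agent.AnStalkLib

noncomputable section

variable {n : ℕ}

/-- The weight of a monomial. -/
def wt (ρ : Fin n → ℝ≥0∞) (α : Fin n →₀ ℕ) : ℝ≥0∞ := ∏ i, ρ i ^ α i

/-- The weighted norm of a series. -/
def nrm (ρ : Fin n → ℝ≥0∞) (f : MvPowerSeries (Fin n) ℂ) : ℝ≥0∞ := ∑' α, ‖coeff α f‖ₑ * wt ρ α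

theorem wt_add (ρ : Fin n → ℝ≥0∞) (α β : Fin n →₀ ℕ) : wt ρ (α + β) = wt ρ α * wt ρ β := by
  simp [wt, pow_add, prod_mul_distrib]

theorem wt_mono {ρ ρ' : Fin n → ℝ≥0∞} (h : ρ ≤ ρ') (α : Fin n →₀ ℕ) : wt ρ α ≤ wt ρ' α :=
  prod_le_prod' fun i _ => pow_le_pow_left' (h i) _

theorem nrm_mono {ρ ρ' : Fin n → ℝ≥0∞} (h : ρ ≤ ρ') (f : MvPowerSeries (Fin n) ℂ) : nrm ρ f ≤ nrm ρ' f :=
  ENNReal.tsum_le_tsum fun α => mul_le_mul' le_rfl (wt_mono h α)

theorem nrm_add (ρ : Fin n → ℝ≥0∞) (f g : MvPowerSeries (Fin n) ℂ) : nrm ρ (f + g) ≤ nrm ρ f + nrm ρ g := by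
  rw [nrm, nrm, nrm, ← ENNReal.tsum_add]
  refine ENNReal.tsum_le_tsum fun α => ?_
  rw [← add_mul, map_add]
  exact mul_le_mul' (enorm_add_le _ _) le_rfl

theorem nrm_smul (ρ : Fin n → ℝ≥0∞) (c : ℂ) (f : MvPowerSeries (Fin n) ℂ) : nrm ρ (c • f) = ‖c‖ₑ * nrm ρ f := by
  rw [nrm, nrm, ← ENNReal.tsum_mul_left]
  refine tsum_congr fun α => ?_
  rw [coeff_smul, enorm_mul, mul_assoc]

theorem nrm_neg (ρ : Fin n → ℝ≥0∞) (f : MvPowerSeries (Fin n) ℂ) : nrm ρ (-f) = nrm ρ f := by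
  simp [nrm]

theorem nrm_sub (ρ : Fin n → ℝ≥0∞) (f g : MvPowerSeries (Fin n) ℂ) : nrm ρ (f - g) ≤ nrm ρ f + nrm ρ g := by
  rw [sub_eq_add_neg]; exact (nrm_add ρ f _).trans (by rw [nrm_neg])

theorem nrm_mul (ρ : Fin n → ℝ≥0∞) (f g : MvPowerSeries (Fin n) ℂ) : nrm ρ (f * g) ≤ nrm ρ f * nrm ρ g := by
  classical
  calc nrm ρ (f * g)
      ≤ ∑' α, ∑ p ∈ antidiagonal α, (‖coeff p.1 f‖ₑ * wt ρ p.1) * (‖coeff p.2 g‖ₑ * wt ρ p.2) := by
        refine ENNReal.tsum_le_tsum fun α => ?_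
        rw [coeff_mul]
        refine le_trans (mul_le_mul' (enorm_sum_le _ _) le_rfl) (le_of_eq ?_)
        rw [sum_mul]
        refine sum_congr rfl fun p hp => ?_
        rw [enorm_mul, ← mem_antidiagonal.1 hp, wt_add]
        ring
    _ = ∑' p : (Fin n →₀ ℕ) × (Fin n →₀ ℕ), (‖coeff p.1 f‖ₑ * wt ρ p.1) * (‖coeff p.2 g‖ₑ * wt ρ p.2) := by
        rw [← Finset.HasAntidiagonal.sigmaAntidiagonalEquivProd.tsum_eq]
        refine Eq.trans ?_ (ENNReal.tsum_sigma' _).symm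
        exact tsum_congr fun α => (Finset.tsum_subtype (antidiagonal α)
          fun p => (‖coeff p.1 f‖ₑ * wt ρ p.1) * (‖coeff p.2 g‖ₑ * wt ρ p.2)).symm
    _ = nrm ρ f * nrm ρ g := by
        rw [ENNReal.tsum_prod', nrm, nrm, ← ENNReal.tsum_mul_right]
        exact tsum_congr fun α => by rw [← ENNReal.tsum_mul_left]

theorem nrm_zero (ρ : Fin n → ℝ≥0∞) : nrm ρ (0 : MvPowerSeries (Fin n) ℂ) = 0 := by simp [nrm]

theorem nrm_C (ρ : Fin n → ℝ≥0∞) (c : ℂ) : nrm ρ (C c) = ‖c‖ₑ := by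
  classical
  rw [nrm, tsum_eq_single 0 fun α hα => by rw [coeff_C, if_neg hα]; simp]
  simp [coeff_C, wt]

/-- Convergence of a series. -/
def Conv (f : MvPowerSeries (Fin n) ℂ) : Prop := ∃ r : NNReal, 0 < r ∧ nrm (fun _ => (r : ℝ≥0∞)) f < ⊤

theorem exists_common {f g : MvPowerSeries (Fin n) ℂ} (hf : Conv f) (hg : Conv g) :
    ∃ r : NNReal, 0 < r ∧ nrm (fun _ => (r : ℝ≥0∞)) f < ⊤ ∧ nrm (fun _ => (r : ℝ≥0∞)) g < ⊤ := by
  obtain ⟨r, hr, hf⟩ := hf; obtain ⟨s, hs, hg⟩ := hg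
  exact ⟨min r s, lt_min hr hs, (nrm_mono (fun _ => by simp) f).trans_lt hf, (nrm_mono (fun _ => by simp) g).trans_lt hg⟩

theorem Conv.mul {f g : MvPowerSeries (Fin n) ℂ} (hf : Conv f) (hg : Conv g) : Conv (f * g) := by
  obtain ⟨r, hr, h₁, h₂⟩ := exists_common hf hg
  exact ⟨r, hr, (nrm_mul _ f g).trans_lt (ENNReal.mul_lt_top h₁ h₂)⟩

theorem Conv.add {f g : MvPowerSeries (Fin n) ℂ} (hf : Conv f) (hg : Conv g) : Conv (f + g) := by
  obtain ⟨r, hr, h₁, h₂⟩ := exists_common hf hg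
  exact ⟨r, hr, (nrm_add _ f g).trans_lt (ENNReal.add_lt_top.2 ⟨h₁, h₂⟩)⟩

theorem Conv.neg {f : MvPowerSeries (Fin n) ℂ} (hf : Conv f) : Conv (-f) := by
  obtain ⟨r, hr, h⟩ := hf
  exact ⟨r, hr, by rwa [nrm_neg]⟩

theorem conv_C (c : ℂ) : Conv (C c : MvPowerSeries (Fin n) ℂ) := ⟨1, one_pos, by rw [nrm_C]; exact enorm_lt_top⟩

/-- The ring of convergent series. -/
def cv (n : ℕ) : Subring (MvPowerSeries (Fin n) ℂ) where
  carrier := {f | Conv f}
  mul_mem' := Conv.mul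
  add_mem' := Conv.add
  neg_mem' := Conv.neg
  one_mem' := by simpa using conv_C (n := n) 1
  zero_mem' := by simpa using conv_C (n := n) 0

section Division

/-- Division by a power of the first variable. -/
def shift (d : ℕ) (h : MvPowerSeries (Fin (n + 1)) ℂ) : MvPowerSeries (Fin (n + 1)) ℂ :=
  fun α => coeff (α + Finsupp.single 0 d) h

theorem coeff_shift (d : ℕ) (h : MvPowerSeries (Fin (n + 1)) ℂ) (α : Fin (n + 1) →₀ ℕ) :
    coeff α (shift d h) = coeff (α + Finsupp.single 0 d) h := rfl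

/-- The part of degree less than `d` in the first variable. -/
def low (d : ℕ) (h : MvPowerSeries (Fin (n + 1)) ℂ) : MvPowerSeries (Fin (n + 1)) ℂ :=
  fun α => if α 0 < d then coeff α h else 0

theorem coeff_low (d : ℕ) (h : MvPowerSeries (Fin (n + 1)) ℂ) (α : Fin (n + 1) →₀ ℕ) :
    coeff α (low d h) = if α 0 < d then coeff α h else 0 := rfl

theorem X_pow_mul_shift (d : ℕ) (h : MvPowerSeries (Fin (n + 1)) ℂ) :
    h = X 0 ^ d * shift d h + low d h := by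
  classical
  ext α
  rw [map_add, X_pow_eq, coeff_monomial_mul, coeff_low]
  by_cases hα : Finsupp.single 0 d ≤ α
  · rw [if_pos hα, if_neg (not_lt.2 (Finsupp.single_le_iff.1 hα)), one_mul, coeff_shift, tsub_add_cancel_of_le hα, add_zero]
  · rw [if_neg hα, zero_add, if_pos (not_le.1 fun h' => hα (Finsupp.single_le_iff.2 h'))]

theorem shift_add (d : ℕ) (g h : MvPowerSeries (Fin (n + 1)) ℂ) : shift d (g + h) = shift d g + shift d h := by
  ext α; simp [coeff_shift]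

theorem shift_sub (d : ℕ) (g h : MvPowerSeries (Fin (n + 1)) ℂ) : shift d (g - h) = shift d g - shift d h := by
  ext α; simp [coeff_shift]

theorem shift_X_pow_mul (d : ℕ) (h : MvPowerSeries (Fin (n + 1)) ℂ) : shift d (X 0 ^ d * h) = h := by
  classical
  ext α
  rw [coeff_shift, X_pow_eq, coeff_monomial_mul, if_pos le_add_self, add_tsub_cancel_right, one_mul]

theorem nrm_shift (d : ℕ) (ρ : Fin (n + 1) → ℝ≥0∞) (h0 : ρ 0 ≠ 0) (h0' : ρ 0 ≠ ⊤) (h : MvPowerSeries (Fin (n + 1)) ℂ) :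
    nrm ρ (shift d h) ≤ (ρ 0 ^ d)⁻¹ * nrm ρ h := by
  calc nrm ρ (shift d h)
      = (ρ 0 ^ d)⁻¹ * ∑' α, ‖coeff (α + Finsupp.single 0 d) h‖ₑ * wt ρ (α + Finsupp.single 0 d) := by
        rw [← ENNReal.tsum_mul_left]
        refine tsum_congr fun α => ?_
        rw [coeff_shift, wt_add, show wt ρ (Finsupp.single 0 d) = ρ 0 ^ d by
          rw [wt, prod_eq_single 0 (fun i _ hi => by simp [Finsupp.single_eq_of_ne hi]) (by simp)]; simp]
        rw [show ∀ a b c : ℝ≥0∞, c⁻¹ * (a * (b * c)) = (c⁻¹ * c) * (a * b) from fun a b c => by ring,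
          ENNReal.inv_mul_cancel (pow_ne_zero _ h0) (ENNReal.pow_ne_top h0'), one_mul]
    _ ≤ _ := mul_le_mul' le_rfl (ENNReal.tsum_comp_le_tsum_of_injective (add_left_injective _) fun α => ‖coeff α h‖ₑ * wt ρ α)

theorem nrm_low (d : ℕ) (ρ : Fin (n + 1) → ℝ≥0∞) (h : MvPowerSeries (Fin (n + 1)) ℂ) : nrm ρ (low d h) ≤ nrm ρ h := by
  refine ENNReal.tsum_le_tsum fun α => mul_le_mul' ?_ le_rfl
  rw [coeff_low]; split <;> simp

/-- The weights used for the fixed point. -/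
def om (d : ℕ) (α : Fin (n + 1) →₀ ℕ) : ℕ := (d + 1) * (∑ i : Fin n, α i.succ) + α 0

theorem om_add (d : ℕ) (α β : Fin (n + 1) →₀ ℕ) : om d (α + β) = om d α + om d β := by
  simp [om, sum_add_distrib]; ring

/-- Vanishing below a weight. -/
def Van (d k : ℕ) (h : MvPowerSeries (Fin (n + 1)) ℂ) : Prop := ∀ α, om d α < k → coeff α h = 0

theorem Van.mul {d j k : ℕ} {g h : MvPowerSeries (Fin (n + 1)) ℂ} (hg : Van d j g) (hh : Van d k h) :
    Van d (j + k) (g * h) := by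
  classical
  intro α hα
  rw [coeff_mul]
  refine sum_eq_zero fun p hp => ?_
  rw [← mem_antidiagonal.1 hp, om_add] at hα
  rcases lt_or_ge (om d p.1) j with h1 | h1
  · rw [hg _ h1, zero_mul]
  · rw [hh _ (by omega), mul_zero]

theorem Van.shift {d k : ℕ} {h : MvPowerSeries (Fin (n + 1)) ℂ} (hh : Van d (d + k) h) : Van d k (shift d h) := by
  intro α hα
  refine hh _ ?_
  rw [om_add, show om d (Finsupp.single (0 : Fin (n + 1)) d) = d by simp [om]]
  omega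

variable {c : ℂ} {d : ℕ}

theorem small_of_constantCoeff_eq_zero {w : MvPowerSeries (Fin n) ℂ} (hw : coeff 0 w = 0) {s r : NNReal} (hr : 0 < r)
    (hsr : s ≤ r) : nrm (fun _ => (s : ℝ≥0∞)) w ≤ ((s / r : NNReal) : ℝ≥0∞) * nrm (fun _ => (r : ℝ≥0∞)) w := by
  rw [nrm, nrm, ← ENNReal.tsum_mul_left]
  refine ENNReal.tsum_le_tsum fun α => ?_
  rcases eq_or_ne α 0 with rfl | hα
  · simp [hw]
  have h1 : ∀ t : NNReal, wt (fun _ : Fin n => (t : ℝ≥0∞)) α = ((t ^ (∑ i, α i) : NNReal) : ℝ≥0∞) := fun t => by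
    simp [wt, prod_pow_eq_pow_sum]
  obtain ⟨k, hk⟩ : ∃ k, ∑ i, α i = k + 1 := by
    refine Nat.exists_eq_add_one_of_ne_zero fun h => hα (Finsupp.ext fun i => ?_)
    exact Finset.sum_eq_zero_iff.1 h i (mem_univ i)
  rw [h1, h1, mul_left_comm]
  refine mul_le_mul' le_rfl ?_
  rw [← ENNReal.coe_mul, ENNReal.coe_le_coe, hk]
  calc s ^ (k + 1) = s * s ^ k := pow_succ' s k
    _ ≤ s * r ^ k := by gcongr
    _ = s / r * r ^ (k + 1) := by rw [pow_succ']; field_simp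

theorem small_low {fl : MvPowerSeries (Fin (n + 1)) ℂ} (hfl : ∀ α, coeff α fl ≠ 0 → ∃ i : Fin n, α i.succ ≠ 0)
    {t s : NNReal} (hs : 0 < s) (hts : t ≤ s) :
    nrm (Fin.cons (s : ℝ≥0∞) fun _ => (t : ℝ≥0∞)) fl ≤ ((t / s : NNReal) : ℝ≥0∞) * nrm (fun _ => (s : ℝ≥0∞)) fl := by
  rw [nrm, nrm, ← ENNReal.tsum_mul_left]
  refine ENNReal.tsum_le_tsum fun α => ?_
  by_cases hα : coeff α fl = 0
  · simp [hα]
  obtain ⟨i, hi⟩ := hfl α hα
  obtain ⟨k, hk⟩ : ∃ k, ∑ i : Fin n, α i.succ = k + 1 :=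
    Nat.exists_eq_add_one_of_ne_zero fun h => hi (Finset.sum_eq_zero_iff.1 h i (mem_univ i))
  rw [mul_left_comm]
  refine mul_le_mul' le_rfl ?_
  simp only [wt]
  rw [Fin.prod_univ_succ (f := fun i => Fin.cons (α := fun _ => ℝ≥0∞) (s : ℝ≥0∞) (fun _ => (t : ℝ≥0∞)) i ^ α i),
    Fin.prod_univ_succ (f := fun i => (s : ℝ≥0∞) ^ α i)]
  simp only [Fin.cons_zero, Fin.cons_succ, prod_pow_eq_pow_sum, hk]
  rw [mul_left_comm]
  refine mul_le_mul' le_rfl ?_
  rw [← ENNReal.coe_pow, ← ENNReal.coe_pow, ← ENNReal.coe_mul, ENNReal.coe_le_coe]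
  calc t ^ (k + 1) = t * t ^ k := pow_succ' t k
    _ ≤ t * s ^ k := by gcongr
    _ = t / s * s ^ (k + 1) := by rw [pow_succ']; field_simp

/-- Weierstrass division. -/
theorem exists_division {f g : MvPowerSeries (Fin (n + 1)) ℂ} (hf : Conv f) (hg : Conv g) (d : ℕ)
    (hd : coeff (Finsupp.single 0 d) f ≠ 0) (hlt : ∀ i < d, coeff (Finsupp.single 0 i) f = 0) :
    ∃ q r : MvPowerSeries (Fin (n + 1)) ℂ, Conv q ∧ Conv r ∧ g = q * f + r ∧ ∀ α, d ≤ α 0 → coeff α r = 0 := by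
  classical
  set c := coeff (Finsupp.single 0 d) f with hc
  let w₁ : MvPowerSeries (Fin (n + 1)) ℂ := 1 - c⁻¹ • shift d f
  let fl := low d f
  let Φ : MvPowerSeries (Fin (n + 1)) ℂ → MvPowerSeries (Fin (n + 1)) ℂ := fun q =>
    c⁻¹ • shift d g - c⁻¹ • shift d (q * fl) + q * w₁
  have hw0 : coeff 0 w₁ = 0 := by
    simp only [w₁, map_sub, coeff_smul, coeff_shift, zero_add, coeff_zero_one, ← hc, inv_mul_cancel₀ hd, sub_self]
  have hflz : ∀ α, coeff α fl ≠ 0 → ∃ i : Fin n, α i.succ ≠ 0 := fun α hα => by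
    by_contra! hcon
    have hαeq : α = Finsupp.single 0 (α 0) := Finsupp.ext fun i => by
      refine Fin.cases ?_ (fun j => ?_) i
      · simp
      · simp [hcon j, Finsupp.single_eq_of_ne]
    simp only [fl, coeff_low] at hα
    split at hα
    · rename_i h
      rw [hαeq] at hα
      exact hα (hlt _ h)
    · exact hα rfl
  have hvw : Van d 1 w₁ := fun α hα => by
    have : α = 0 := Finsupp.ext fun i => by
      simp only [om, Nat.lt_one_iff, Nat.add_eq_zero_iff, mul_eq_zero, Nat.succ_ne_zero, false_or] at hα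
      refine Fin.cases hα.2 (fun j => ?_) i
      exact Finset.sum_eq_zero_iff.1 hα.1 j (mem_univ j)
    rw [this, hw0]
  have hvf : Van d (d + 1) fl := fun α hα => by
    by_contra h
    obtain ⟨i, hi⟩ := hflz α h
    have : 1 ≤ ∑ i : Fin n, α i.succ :=
      le_trans (Nat.one_le_iff_ne_zero.2 hi) (Finset.single_le_sum (f := fun i : Fin n => α i.succ) (fun _ _ => Nat.zero_le _) (mem_univ i))
    simp only [om] at hα
    nlinarith
  have hstep : ∀ k q q', Van d k (q - q') → Van d (k + 1) (Φ q - Φ q') := fun k q q' h => by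
    have e : Φ q - Φ q' = (q - q') * w₁ - c⁻¹ • shift d ((q - q') * fl) := by
      simp only [Φ]
      rw [sub_mul q q' fl, shift_sub, smul_sub]
      ring
    rw [e]
    intro α hα
    rw [map_sub, coeff_smul, (h.mul hvw) α hα, Van.shift (k := k + 1) (Nat.add_left_comm d k 1 ▸ h.mul hvf) α hα, mul_zero, sub_zero]
  have hagree : ∀ k j, k ≤ j → Van d k (Φ^[j] 0 - Φ^[k] 0) := by
    intro k
    induction k with
    | zero => exact fun j _ α hα => absurd hα (Nat.not_lt_zero _)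
    | succ k ih =>
      intro j hj
      obtain ⟨j, rfl⟩ := Nat.exists_eq_add_one_of_ne_zero (by omega : j ≠ 0)
      rw [Function.iterate_succ_apply', Function.iterate_succ_apply']
      exact hstep k _ _ (ih j (by omega))
  let q : MvPowerSeries (Fin (n + 1)) ℂ := fun α => coeff α (Φ^[om d α + 1] 0)
  have hq : ∀ α j, om d α < j → coeff α q = coeff α (Φ^[j] 0) := fun α j hj => by
    have := hagree (om d α + 1) j hj α (Nat.lt_succ_self _)
    rw [map_sub, sub_eq_zero] at this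
    exact this.symm
  have hfix : Φ q = q := by
    ext α
    have h1 : Van d (om d α) (q - Φ^[om d α] 0) := fun β hβ => by rw [map_sub, hq β _ hβ, sub_self]
    have h2 := hstep _ _ _ h1 α (Nat.lt_succ_self _)
    rw [map_sub, sub_eq_zero, ← Function.iterate_succ_apply' Φ] at h2
    rw [h2]; rfl
  have hrem : shift d (g - q * f) = 0 := by
    have h3 : c • Φ q = c • q := by rw [hfix]
    have h4 : c • Φ q = shift d g - shift d (q * fl) + c • q - q * shift d f := by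
      simp only [Φ, w₁, smul_add, smul_sub, mul_sub, mul_one, mul_smul_comm, smul_smul, mul_inv_cancel₀ hd, one_smul]
      ring
    rw [h4] at h3
    have h5 : q * f = X 0 ^ d * (q * shift d f) + q * fl := by
      conv_lhs => rw [X_pow_mul_shift d f]
      simp only [fl]; ring
    rw [shift_sub, h5, shift_add, shift_X_pow_mul, ← sub_eq_zero.2 h3]
    ring
  -- the estimate
  obtain ⟨r, hr, hfr, hgr⟩ := exists_common hf hg
  set ρr : Fin (n + 1) → ℝ≥0∞ := fun _ => (r : ℝ≥0∞) with hρr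
  have hr0 : ρr 0 ≠ 0 := by simp [hρr, hr.ne']
  have hw1fin : nrm ρr w₁ < ⊤ := by
    refine (nrm_sub _ _ _).trans_lt (ENNReal.add_lt_top.2 ⟨?_, ?_⟩)
    · simpa using (nrm_C (n := n + 1) ρr 1).trans_lt enorm_lt_top
    · rw [nrm_smul]
      exact ENNReal.mul_lt_top enorm_lt_top ((nrm_shift d ρr hr0 (by simp [hρr]) f).trans_lt
        (ENNReal.mul_lt_top (ENNReal.inv_lt_top.2 (pos_iff_ne_zero.2 (pow_ne_zero _ hr0))) hfr))
  lift nrm ρr w₁ to NNReal using hw1fin.ne with A hA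
  let s : NNReal := r / (4 * (A + 1))
  have hA1 : 1 ≤ 4 * (A + 1) := by nlinarith [A.2, (by norm_num : (1 : NNReal) ≤ 4)]
  have hs : 0 < s := by positivity
  have hsr : s ≤ r := div_le_self zero_le hA1
  have hw1s : nrm (fun _ => (s : ℝ≥0∞)) w₁ ≤ ((1 / 4 : NNReal) : ℝ≥0∞) := by
    refine (small_of_constantCoeff_eq_zero hw0 hr hsr).trans ?_
    rw [← hA, ← ENNReal.coe_mul, ENNReal.coe_le_coe]
    calc s / r * A = A / (4 * (A + 1)) := by simp only [s]; field_simp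
      _ ≤ 1 / 4 := by rw [div_le_div_iff₀ (by positivity) (by norm_num)]; nlinarith [A.2]
  set ρs : Fin (n + 1) → ℝ≥0∞ := fun _ => (s : ℝ≥0∞) with hρs
  have hflfin : nrm ρs fl < ⊤ :=
    (nrm_low d ρs f).trans_lt ((nrm_mono (fun _ => ENNReal.coe_le_coe.2 hsr) f).trans_lt hfr)
  lift nrm ρs fl to NNReal using hflfin.ne with B hB
  let K : NNReal := ‖c⁻¹‖₊ * (s ^ d)⁻¹
  let t : NNReal := s / (4 * (B * K + 1))
  have hB1 : 1 ≤ 4 * (B * K + 1) := by nlinarith [(B * K).2, (by norm_num : (1 : NNReal) ≤ 4)]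
  have ht : 0 < t := by positivity
  have hts : t ≤ s := div_le_self zero_le hB1
  set ρ : Fin (n + 1) → ℝ≥0∞ := Fin.cons (s : ℝ≥0∞) fun _ => (t : ℝ≥0∞) with hρ
  have hρle : ρ ≤ ρs := Fin.cases (le_refl _) fun j => by simpa [hρ, hρs] using hts
  have hρr' : ρ ≤ ρr := fun i => (hρle i).trans (ENNReal.coe_le_coe.2 hsr)
  have hK : ‖c⁻¹‖ₑ * (ρ 0 ^ d)⁻¹ = (K : ℝ≥0∞) := by
    simp [K, hρ, ← ENNReal.coe_pow, ENNReal.coe_inv (pow_ne_zero d hs.ne'), enorm_eq_nnnorm]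
  have hKfl : (K : ℝ≥0∞) * nrm ρ fl ≤ ((1 / 4 : NNReal) : ℝ≥0∞) := by
    refine (mul_le_mul' le_rfl (small_low hflz hs hts)).trans ?_
    rw [← hB, ← ENNReal.coe_mul, ← ENNReal.coe_mul, ENNReal.coe_le_coe]
    calc K * (t / s * B) = B * K / (4 * (B * K + 1)) := by simp only [t]; field_simp
      _ ≤ 1 / 4 := by rw [div_le_div_iff₀ (by positivity) (by norm_num)]; nlinarith [(B * K).2]
  set a : ℝ≥0∞ := (K : ℝ≥0∞) * nrm ρ g
  have hρ0 : ρ 0 ≠ 0 := by simp [hρ, hs.ne']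
  have hΦ : ∀ p, nrm ρ p ≤ 2 * a → nrm ρ (Φ p) ≤ 2 * a := fun p hp => by
    calc nrm ρ (Φ p) ≤ a + (K : ℝ≥0∞) * nrm ρ fl * nrm ρ p + nrm ρ p * nrm ρ w₁ := by
          refine (nrm_add _ _ _).trans (add_le_add ((nrm_sub _ _ _).trans (add_le_add ?_ ?_)) (nrm_mul _ _ _))
          · rw [nrm_smul]
            refine (mul_le_mul' le_rfl (nrm_shift d ρ hρ0 (by simp [hρ]) g)).trans (le_of_eq ?_)
            rw [← mul_assoc, hK]
          · rw [nrm_smul]
            refine (mul_le_mul' le_rfl ((nrm_shift d ρ hρ0 (by simp [hρ]) _).trans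
              (mul_le_mul' le_rfl (nrm_mul _ _ _)))).trans (le_of_eq ?_)
            rw [← mul_assoc, hK]; ring
      _ ≤ a + ((1 / 4 : NNReal) : ℝ≥0∞) * (2 * a) + (2 * a) * ((1 / 4 : NNReal) : ℝ≥0∞) :=
          add_le_add (add_le_add le_rfl (mul_le_mul' hKfl hp)) (mul_le_mul' hp ((nrm_mono hρle _).trans hw1s))
      _ = a + (((1 / 4 : NNReal) : ℝ≥0∞) * 2 + 2 * ((1 / 4 : NNReal) : ℝ≥0∞)) * a := by ring
      _ = 2 * a := by
          rw [← ENNReal.coe_ofNat, ← ENNReal.coe_mul, ← ENNReal.coe_mul, ← ENNReal.coe_add,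
            show (1 / 4 : NNReal) * 2 + 2 * (1 / 4) = 1 by norm_num, ENNReal.coe_one, one_mul, ENNReal.coe_ofNat, two_mul]
  have hqb : nrm ρ q ≤ 2 * a := by
    rw [nrm, ENNReal.tsum_eq_iSup_sum]
    refine iSup_le fun T => ?_
    let J := T.sup (om d) + 1
    have hJ : nrm ρ (Φ^[J] 0) ≤ 2 * a := by
      generalize J = J
      induction J with
      | zero => simp [nrm_zero]
      | succ j ih => rw [Function.iterate_succ_apply']; exact hΦ _ ih
    refine le_trans (le_of_eq (sum_congr rfl fun α hα => ?_)) ((ENNReal.sum_le_tsum T).trans hJ)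
    rw [hq α J (Nat.lt_succ_of_le (Finset.le_sup hα))]
  have hafin : 2 * a < ⊤ := ENNReal.mul_lt_top (by simp) (ENNReal.mul_lt_top ENNReal.coe_lt_top ((nrm_mono hρr' g).trans_lt hgr))
  have hqc : Conv q := ⟨t, ht, (nrm_mono (Fin.cases (by simpa [hρ] using hts) fun j => by simp [hρ]) q).trans_lt
    (hqb.trans_lt hafin)⟩
  refine ⟨q, g - q * f, hqc, ?_, by ring, fun α hα => ?_⟩
  · rw [sub_eq_add_neg]; exact hg.add (hqc.mul hf).neg
  · rw [X_pow_mul_shift d (g - q * f), hrem, mul_zero, zero_add, coeff_low, if_neg (not_lt.2 hα)]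

end Division

end

end Groth.Agent.AnStalkLib
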