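import Mathlib
import Groth.Agent.AnStalkLib.Cauchy
import Groth.Agent.AnStalkLib.Weier

/-! Germs at the origin of holomorphic functions on `ℂⁿ`: a Noetherian local ring. -/

set_option autoImplicit false
set_option maxHeartbeats 1000000

open Filter Topology Metric MvPowerSeries
open scoped ENNReal

namespace Groth.Agent.AnStalkLib

noncomputable section

variable {n : ℕ}

/-- Germs at the origin of holomorphic functions. -/
def hol0 (n : ℕ) : Subring (Germ (𝓝 (0 : Fin n → ℂ)) ℂ) where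
  carrier := {φ | ∃ (G : (Fin n → ℂ) → ℂ) (R : ℝ), 0 < R ∧ DifferentiableOn ℂ G (ball 0 R) ∧ φ = ↑G}
  mul_mem' := by
    rintro _ _ ⟨G, R, hR, hG, rfl⟩ ⟨H, S, hS, hH, rfl⟩
    exact ⟨fun z => G z * H z, min R S, lt_min hR hS, (hG.mono (ball_subset_ball (min_le_left _ _))).fun_mul
      (hH.mono (ball_subset_ball (min_le_right _ _))), rfl⟩
  add_mem' := by
    rintro _ _ ⟨G, R, hR, hG, rfl⟩ ⟨H, S, hS, hH, rfl⟩
    exact ⟨fun z => G z + H z, min R S, lt_min hR hS, (hG.mono (ball_subset_ball (min_le_left _ _))).fun_add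
      (hH.mono (ball_subset_ball (min_le_right _ _))), rfl⟩
  neg_mem' := by
    rintro _ ⟨G, R, hR, hG, rfl⟩
    exact ⟨fun z => -G z, R, hR, hG.fun_neg, rfl⟩
  one_mem' := ⟨fun _ => 1, 1, one_pos, differentiableOn_const _, rfl⟩
  zero_mem' := ⟨fun _ => 0, 1, one_pos, differentiableOn_const _, rfl⟩

/-- The germ of a function differentiable near the origin. -/
def gm (G : (Fin n → ℂ) → ℂ) (h : ∃ R > 0, DifferentiableOn ℂ G (ball 0 R)) : hol0 n :=
  ⟨↑G, G, h.choose, h.choose_spec.1, h.choose_spec.2, rfl⟩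

theorem exists_gm (φ : hol0 n) :
    ∃ (G : (Fin n → ℂ) → ℂ) (R : ℝ), 0 < R ∧ DifferentiableOn ℂ G (ball 0 R) ∧ (φ : Germ (𝓝 (0 : Fin n → ℂ)) ℂ) = ↑G := φ.2

theorem summable_of_nrm {r : NNReal} {a : (Fin n →₀ ℕ) → ℂ} (h : ∑' α, ‖a α‖ₑ * wt (fun _ => (r : ℝ≥0∞)) α < ⊤) :
    Summable fun α => ‖a α‖ * ∏ i, (r : ℝ) ^ α i := by
  have h1 : ∑' α, ((‖a α‖₊ * ∏ i, r ^ α i : NNReal) : ℝ≥0∞) ≠ ⊤ := by
    refine ne_top_of_le_ne_top h.ne (le_of_eq (tsum_congr fun α => ?_))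
    simp [wt, enorm_eq_nnnorm]
  have h2 := (ENNReal.tsum_coe_ne_top_iff_summable.1 h1)
  refine (NNReal.summable_coe.2 h2).congr fun α => ?_
  simp

theorem nrm_lt_top_of_summable {r : NNReal} {a : (Fin n →₀ ℕ) → ℂ} (h : Summable fun α => ‖a α‖ * ∏ i, (r : ℝ) ^ α i) :
    ∑' α, ‖a α‖ₑ * wt (fun _ => (r : ℝ≥0∞)) α < ⊤ := by
  have h2 : Summable fun α => ‖a α‖₊ * ∏ i, r ^ α i := NNReal.summable_coe.1 (h.congr fun α => by simp)
  refine lt_of_eq_of_lt (tsum_congr fun α => ?_) (lt_top_iff_ne_top.2 (ENNReal.tsum_coe_ne_top_iff_summable.2 h2))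
  simp [wt, enorm_eq_nnnorm]

/-- The sum of a series. -/
def sumFun (f : MvPowerSeries (Fin n) ℂ) (z : Fin n → ℂ) : ℂ := ∑' α, coeff α f * mon α z

theorem summable_term {r : NNReal} {f : MvPowerSeries (Fin n) ℂ} (h : nrm (fun _ => (r : ℝ≥0∞)) f < ⊤) {z : Fin n → ℂ}
    (hz : ‖z‖ ≤ r) : Summable fun α => ‖coeff α f * mon α z‖ := by
  refine Summable.of_nonneg_of_le (fun α => norm_nonneg _) (fun α => ?_) (summable_of_nrm h)
  rw [norm_mul]
  exact mul_le_mul_of_nonneg_left (norm_mon_le α hz) (norm_nonneg _)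

theorem differentiableOn_sumFun {r : NNReal} (hr : 0 < r) {f : MvPowerSeries (Fin n) ℂ}
    (h : nrm (fun _ => (r : ℝ≥0∞)) f < ⊤) : DifferentiableOn ℂ (sumFun f) (ball 0 ((r : ℝ) / 2)) :=
  differentiableOn_tsum_mon _ (by exact_mod_cast hr) (summable_of_nrm h)

theorem sumFun_mul {r : NNReal} {f g : MvPowerSeries (Fin n) ℂ} (hf : nrm (fun _ => (r : ℝ≥0∞)) f < ⊤)
    (hg : nrm (fun _ => (r : ℝ≥0∞)) g < ⊤) {z : Fin n → ℂ} (hz : ‖z‖ ≤ r) :
    sumFun (f * g) z = sumFun f z * sumFun g z := by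
  classical
  simp only [sumFun]
  have h1 := (summable_term hf hz).of_norm
  have h2 := (summable_term hg hz).of_norm
  have h3 : Summable fun x : (Fin n →₀ ℕ) × (Fin n →₀ ℕ) => (coeff x.1 f * mon x.1 z) * (coeff x.2 g * mon x.2 z) :=
    summable_mul_of_summable_norm (f := fun α => coeff α f * mon α z) (g := fun α => coeff α g * mon α z)
      (summable_term hf hz) (summable_term hg hz)
  rw [h1.tsum_mul_tsum_eq_tsum_sum_antidiagonal h2 h3]
  refine tsum_congr fun α => ?_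
  rw [coeff_mul, Finset.sum_mul]
  refine Finset.sum_congr rfl fun p hp => ?_
  rw [← Finset.HasAntidiagonal.mem_antidiagonal.1 hp]
  simp only [mon, Finsupp.coe_add, Pi.add_apply, pow_add, Finset.prod_mul_distrib]
  ring

theorem sumFun_C (c : ℂ) (z : Fin n → ℂ) : sumFun (C c) z = c := by
  classical
  rw [sumFun, tsum_eq_single 0 fun α hα => by rw [coeff_C, if_neg hα, zero_mul]]
  simp [coeff_C, mon]

/-- The germ of the sum, as a ring homomorphism. -/
def ev : cv n →+* hol0 n where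
  toFun f := gm (sumFun f.1) (by
    obtain ⟨r, hr, h⟩ := f.2
    exact ⟨(r : ℝ) / 2, half_pos (by exact_mod_cast hr), differentiableOn_sumFun hr h⟩)
  map_one' := Subtype.ext (Germ.coe_eq.2 (Eventually.of_forall fun z => by
    rw [show ((1 : cv n) : MvPowerSeries (Fin n) ℂ) = C 1 by simp]; exact sumFun_C 1 z))
  map_mul' f g := Subtype.ext (Germ.coe_eq.2 (by
    obtain ⟨r, hr, h₁, h₂⟩ := exists_common f.2 g.2
    filter_upwards [closedBall_mem_nhds (0 : Fin n → ℂ) (show (0 : ℝ) < r by exact_mod_cast hr)] with z hz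
    exact sumFun_mul h₁ h₂ (mem_closedBall_zero_iff.1 hz)))
  map_zero' := Subtype.ext (Germ.coe_eq.2 (Eventually.of_forall fun z => by simp [sumFun]))
  map_add' f g := Subtype.ext (Germ.coe_eq.2 (by
    obtain ⟨r, hr, h₁, h₂⟩ := exists_common f.2 g.2
    filter_upwards [closedBall_mem_nhds (0 : Fin n → ℂ) (show (0 : ℝ) < r by exact_mod_cast hr)] with z hz
    rw [mem_closedBall_zero_iff] at hz
    simp only [sumFun, Subring.coe_add, map_add, add_mul, Pi.add_apply]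
    exact (summable_term h₁ hz).of_norm.tsum_add (summable_term h₂ hz).of_norm))

theorem coe_ev (f : cv n) : ((ev f : hol0 n) : Germ (𝓝 (0 : Fin n → ℂ)) ℂ) = ↑(sumFun f.1) := rfl

theorem exists_series_near (G : (Fin n → ℂ) → ℂ) {S : ℝ} (hS : 0 < S) (hG : DifferentiableOn ℂ G (ball 0 S)) :
    ∃ (f : cv n) (R : ℝ), 0 < R ∧ R < S ∧ ∀ z ∈ ball (0 : Fin n → ℂ) R, HasSum (fun α => coeff α f.1 * mon α z) (G z) := by
  have hcb : closedBall (0 : Fin n → ℂ) (S / 2) ⊆ ball 0 S := closedBall_subset_ball (by linarith)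
  obtain ⟨M, hM⟩ := (isCompact_closedBall (0 : Fin n → ℂ) (S / 2)).exists_bound_of_continuousOn (hG.continuousOn.mono hcb)
  have hM0 : 0 ≤ M := (norm_nonneg _).trans (hM 0 (mem_closedBall_self (by linarith)))
  obtain ⟨a, ha, hsum⟩ := exists_series n G (S / 4) (S / 2) M (by linarith) (by linarith) hM0
    (hG.mono (ball_subset_ball (by linarith))) fun z hz => hM z (ball_subset_closedBall hz)
  let r : NNReal := ⟨S / 8, by linarith⟩
  have hs : Summable fun α => ‖a α‖ * ∏ i, (r : ℝ) ^ α i := by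
    refine Summable.of_nonneg_of_le (fun α => by positivity) (fun α => ?_)
      ((summable_geometric n (fun _ => (1 / 2 : ℝ)) fun _ => ⟨by norm_num, by norm_num⟩).mul_left M)
    refine (mul_le_mul_of_nonneg_right (ha α) (by positivity)).trans (le_of_eq ?_)
    rw [mul_assoc, ← Finset.prod_mul_distrib]
    congr 1
    refine Finset.prod_congr rfl fun i _ => ?_
    rw [← mul_pow]
    congr 1
    show (S / 4)⁻¹ * (S / 8) = 1 / 2
    field_simp; ring
  refine ⟨⟨(fun α => a α : MvPowerSeries (Fin n) ℂ), r, by exact_mod_cast (by linarith : (0 : ℝ) < S / 8),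
    nrm_lt_top_of_summable hs⟩, S / 4, by linarith, by linarith, hsum⟩

theorem ev_surjective : Function.Surjective (ev (n := n)) := fun φ => by
  obtain ⟨G, S, hS, hG, hφ⟩ := exists_gm φ
  obtain ⟨f, R, hR, -, hf⟩ := exists_series_near G hS hG
  refine ⟨f, Subtype.ext ?_⟩
  rw [hφ, coe_ev, Germ.coe_eq]
  filter_upwards [ball_mem_nhds (0 : Fin n → ℂ) hR] with z hz using (hf z hz).tsum_eq

/-- The value at the origin. -/
def ev0 : hol0 n →+* ℂ :=
  (Germ.valueRingHom).comp (hol0 n).subtype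

theorem ev0_gm (G : (Fin n → ℂ) → ℂ) (h) : ev0 (gm G h) = G 0 := rfl

theorem isUnit_of_ev0_ne_zero (φ : hol0 n) (h : ev0 φ ≠ 0) : IsUnit φ := by
  obtain ⟨G, R, hR, hG, hφ⟩ := exists_gm φ
  have hG0 : G 0 ≠ 0 := by
    have : ev0 φ = G 0 := by
      show Germ.value (φ : Germ (𝓝 (0 : Fin n → ℂ)) ℂ) = _
      rw [hφ]; rfl
    rwa [this] at h
  obtain ⟨δ, hδ, hne⟩ := Metric.eventually_nhds_iff_ball.1
    ((hG.continuousOn.continuousAt (ball_mem_nhds _ hR)).eventually_ne hG0)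
  refine ⟨⟨φ, gm (fun z => (G z)⁻¹) ⟨min R δ, lt_min hR hδ, DifferentiableOn.fun_inv
    (hG.mono (ball_subset_ball (min_le_left _ _))) fun z hz => hne z (ball_subset_ball (min_le_right _ _) hz)⟩, ?_, ?_⟩, rfl⟩
  all_goals
    refine Subtype.ext ?_
    simp only [Subring.coe_mul, hφ, gm, Subring.coe_one]
    refine Germ.coe_eq.2 ?_
    filter_upwards [ball_mem_nhds (0 : Fin n → ℂ) hδ] with z hz
    simp [hne z hz]

instance : Nontrivial (hol0 n) :=
  ⟨0, 1, fun h => zero_ne_one (α := ℂ) (by simpa using congrArg ev0 h)⟩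

instance : IsLocalRing (hol0 n) := .of_nonunits_add fun a b ha hb h => by
  have h0 : ∀ φ : hol0 n, ¬IsUnit φ → ev0 φ = 0 := fun φ hφ => by_contra fun h' => hφ (isUnit_of_ev0_ne_zero φ h')
  have := h.map ev0
  rw [map_add, h0 a ha, h0 b hb, add_zero] at this
  exact not_isUnit_zero this

theorem maximalIdeal_eq_ker : IsLocalRing.maximalIdeal (hol0 n) = RingHom.ker (ev0 (n := n)) := by
  ext φ
  rw [IsLocalRing.mem_maximalIdeal, mem_nonunits_iff, RingHom.mem_ker]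
  exact ⟨fun h => by_contra fun h' => h (isUnit_of_ev0_ne_zero φ h'), fun h hu => by
    have := hu.map ev0
    rw [h] at this
    exact not_isUnit_zero this⟩

/-- A coordinate. -/
def crd (i : Fin n) : hol0 n := gm (fun z => z i) ⟨1, one_pos, (differentiable_apply i).differentiableOn⟩

theorem compTendsto_of_eq {α β γ : Type*} {l : Filter α} {l' : Filter γ} {ψ : Germ l β} {G : α → β} (h : ψ = ↑G)
    (f : γ → α) (hf : Tendsto f l' l) : ψ.compTendsto f hf = ↑(G ∘ f) := by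
  subst h; rfl

/-- Functions of the last variables. -/
def pull : hol0 n →+* hol0 (n + 1) where
  toFun φ := ⟨(φ : Germ (𝓝 (0 : Fin n → ℂ)) ℂ).compTendsto Fin.tail
      (by simpa [Fin.tail_def] using! (continuous_pi fun i : Fin n => continuous_apply (A := fun _ : Fin (n + 1) => ℂ) i.succ).tendsto 0), by
    obtain ⟨G, R, hR, hG, hφ⟩ := exists_gm φ
    refine ⟨fun z => G (Fin.tail z), R, hR, hG.comp (differentiable_pi.2 fun i => differentiable_apply i.succ).differentiableOn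
      (fun z hz => ?_), by rw [hφ]; rfl⟩
    rw [mem_ball_zero_iff] at hz ⊢
    exact ((pi_norm_le_iff_of_nonneg (norm_nonneg z)).2 fun (i : Fin n) => norm_le_pi_norm z i.succ).trans_lt hz⟩
  map_one' := rfl
  map_mul' φ ψ := Subtype.ext (by
    obtain ⟨G, _, -, -, hG⟩ := exists_gm φ; obtain ⟨H, _, -, -, hH⟩ := exists_gm ψ
    simp only [Subring.coe_mul, hG, hH]; rfl)
  map_zero' := rfl
  map_add' φ ψ := Subtype.ext (by
    obtain ⟨G, _, -, -, hG⟩ := exists_gm φ; obtain ⟨H, _, -, -, hH⟩ := exists_gm ψ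
    simp only [Subring.coe_add, hG, hH]; rfl)

theorem coe_pull {φ : hol0 n} {G : (Fin n → ℂ) → ℂ} (h : (φ : Germ (𝓝 (0 : Fin n → ℂ)) ℂ) = ↑G) :
    ((pull φ : hol0 (n + 1)) : Germ (𝓝 (0 : Fin (n + 1) → ℂ)) ℂ) = (↑(fun z : Fin (n + 1) → ℂ => G (Fin.tail z)) : Germ _ ℂ) := by
  exact compTendsto_of_eq h Fin.tail
    (by simpa [Fin.tail_def] using! (continuous_pi fun i : Fin n => continuous_apply (A := fun _ : Fin (n + 1) => ℂ) i.succ).tendsto 0)

theorem pull_crd (i : Fin n) : pull (crd i) = crd i.succ := rfl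

/-- The slice of a series at a power of the first variable. -/
def slice (i : ℕ) (h : MvPowerSeries (Fin (n + 1)) ℂ) : MvPowerSeries (Fin n) ℂ :=
  fun β => coeff (Finsupp.cons i β) h

theorem nrm_slice {r : NNReal} (hr : 0 < r) (i : ℕ) {h : MvPowerSeries (Fin (n + 1)) ℂ}
    (hh : nrm (fun _ => (r : ℝ≥0∞)) h < ⊤) : nrm (fun _ => (r : ℝ≥0∞)) (slice i h) < ⊤ := by
  refine nrm_lt_top_of_summable ?_
  have h1 := ((summable_of_nrm hh).comp_injective (Finsupp.cons_injective2.right i)).mul_left ((r : ℝ) ^ i)⁻¹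
  refine h1.congr fun β => ?_
  simp only [Function.comp_apply, Fin.prod_univ_succ, Finsupp.cons_zero, Finsupp.cons_succ, slice, coeff_apply]
  have : (r : ℝ) ^ i ≠ 0 := pow_ne_zero _ (by exact_mod_cast hr.ne')
  field_simp

theorem coe_crd_pow (i : Fin n) (k : ℕ) :
    ((crd i ^ k : hol0 n) : Germ (𝓝 (0 : Fin n → ℂ)) ℂ) = (↑(fun z : Fin n → ℂ => z i ^ k) : Germ (𝓝 (0 : Fin n → ℂ)) ℂ) := by
  rw [SubmonoidClass.coe_pow]
  rfl

theorem sumFun_eq_slices {r : NNReal} {f : MvPowerSeries (Fin (n + 1)) ℂ} (hf : nrm (fun _ => (r : ℝ≥0∞)) f < ⊤) (d : ℕ)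
    (hd : ∀ α, d ≤ α 0 → coeff α f = 0) {z : Fin (n + 1) → ℂ} (hz : ‖z‖ ≤ r) :
    sumFun f z = ∑ i : Fin d, sumFun (slice i f) (Fin.tail z) * z 0 ^ (i : ℕ) := by
  have h0 : Summable fun α : Fin (n + 1) →₀ ℕ => coeff α f * mon α z :=
    Summable.of_norm (f := fun α : Fin (n + 1) →₀ ℕ => coeff α f * mon α z) (summable_term hf hz)
  have hs : Summable ((fun α : Fin (n + 1) →₀ ℕ => coeff α f * mon α z) ∘ consEquiv n) :=
    h0.comp_injective (consEquiv n).injective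
  replace hs : Summable fun x : ℕ × (Fin n →₀ ℕ) => coeff (Finsupp.cons x.1 x.2) f * mon (Finsupp.cons x.1 x.2) z := hs
  have hmon : ∀ (k : ℕ) (β : Fin n →₀ ℕ), mon (Finsupp.cons k β) z = z 0 ^ k * mon β (Fin.tail z) := fun k β => by
    simp [mon, Fin.prod_univ_succ, Fin.tail]
  rw [sumFun, ← (consEquiv n).tsum_eq]
  change ∑' x : ℕ × (Fin n →₀ ℕ), coeff (Finsupp.cons x.1 x.2) f * mon (Finsupp.cons x.1 x.2) z = _
  rw [hs.tsum_prod, tsum_eq_sum (s := Finset.range d) fun k hk => by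
    refine (tsum_congr fun β => ?_).trans tsum_zero
    rw [hd _ (by simpa using hk), zero_mul]]
  rw [← Fin.sum_univ_eq_sum_range]
  refine Finset.sum_congr rfl fun i _ => ?_
  rw [sumFun, ← tsum_mul_right]
  refine tsum_congr fun β => ?_
  rw [hmon]
  simp only [slice, coeff_apply]
  ring

/-- A germ of a series of degree less than `d` in the first variable. -/
theorem ev_eq_sum_slices (h : cv (n + 1)) (d : ℕ) (hd : ∀ α, d ≤ α 0 → coeff α h.1 = 0) :
    ∃ s : Fin d → hol0 n, ev h = ∑ i : Fin d, pull (s i) * crd 0 ^ (i : ℕ) := by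
  obtain ⟨r, hr, hrh⟩ := h.2
  have hrr : (0 : ℝ) < r := NNReal.coe_pos.2 hr
  let s : Fin d → hol0 n := fun i => ev ⟨slice i h.1, r, hr, nrm_slice hr i hrh⟩
  refine ⟨s, ?_⟩
  let Fn : Fin d → (Fin (n + 1) → ℂ) → ℂ := fun i z => sumFun (slice i h.1) (Fin.tail z) * z 0 ^ (i : ℕ)
  have hterm : ∀ i : Fin d, ((pull (s i) * crd 0 ^ (i : ℕ) : hol0 (n + 1)) : Germ (𝓝 (0 : Fin (n + 1) → ℂ)) ℂ) =
      Germ.coeRingHom (𝓝 (0 : Fin (n + 1) → ℂ)) (Fn i) := fun i => by
    rw [Subring.coe_mul, coe_pull (coe_ev _), coe_crd_pow]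
    rfl
  refine Subtype.ext ?_
  rw [AddSubmonoidClass.coe_finsetSum, Finset.sum_congr rfl fun i _ => hterm i, ← map_sum, coe_ev]
  refine Germ.coe_eq.2 ?_
  filter_upwards [closedBall_mem_nhds (0 : Fin (n + 1) → ℂ) hrr] with z hz
  rw [Finset.sum_apply]
  exact sumFun_eq_slices hrh d hd (mem_closedBall_zero_iff.1 hz)

theorem ev_X (i : Fin n) (hX : Conv (X i : MvPowerSeries (Fin n) ℂ)) : ev ⟨X i, hX⟩ = crd i := by
  classical
  refine Subtype.ext (Germ.coe_eq.2 (Eventually.of_forall fun z => ?_))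
  rw [sumFun, tsum_eq_single (Finsupp.single i 1) fun α hα => by simp [coeff_X, hα]]
  simp [coeff_X, mon, Finsupp.single_apply, pow_ite]

theorem conv_X (i : Fin n) : Conv (X i : MvPowerSeries (Fin n) ℂ) := by
  classical
  refine ⟨1, one_pos, ?_⟩
  rw [nrm, tsum_eq_single (Finsupp.single i 1) fun α hα => by simp [coeff_X, hα]]
  simp [coeff_X, wt]

/-- Division by a germ regular in the first variable. -/
theorem exists_division_germ (F : cv (n + 1)) (d : ℕ) (hd : coeff (Finsupp.single 0 d) F.1 ≠ 0)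
    (hlt : ∀ i < d, coeff (Finsupp.single 0 i) F.1 = 0) (φ : hol0 (n + 1)) :
    ∃ (q : hol0 (n + 1)) (s : Fin d → hol0 n), φ = q * ev F + ∑ i : Fin d, pull (s i) * crd 0 ^ (i : ℕ) := by
  obtain ⟨g, rfl⟩ := ev_surjective φ
  obtain ⟨q, r, hq, hr, hgr, hr0⟩ := exists_division F.2 g.2 d hd hlt
  obtain ⟨s, hs⟩ := ev_eq_sum_slices ⟨r, hr⟩ d hr0
  refine ⟨ev ⟨q, hq⟩, s, ?_⟩
  rw [← hs, ← map_mul, ← map_add]
  exact congrArg ev (Subtype.ext hgr)

theorem fg_of_regular [IsNoetherianRing (hol0 n)] (I : Ideal (hol0 (n + 1))) (F : cv (n + 1)) (hF : ev F ∈ I) (d : ℕ)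
    (hd : coeff (Finsupp.single 0 d) F.1 ≠ 0) (hlt : ∀ i < d, coeff (Finsupp.single 0 i) F.1 = 0) : I.FG := by
  classical
  let Ψ : (Fin d → hol0 n) → hol0 (n + 1) := fun s => ∑ i : Fin d, pull (s i) * crd 0 ^ (i : ℕ)
  have hadd : ∀ s t, Ψ (s + t) = Ψ s + Ψ t := fun s t => by simp [Ψ, add_mul, Finset.sum_add_distrib]
  have hsmul : ∀ (a : hol0 n) s, Ψ (a • s) = pull a * Ψ s := fun a s => by simp [Ψ, Finset.mul_sum, mul_assoc]
  let M : Submodule (hol0 n) (Fin d → hol0 n) :=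
    { carrier := {s | Ψ s ∈ I}
      add_mem' := fun {s t} hs ht => by
        show Ψ (s + t) ∈ I
        rw [hadd]; exact I.add_mem hs ht
      zero_mem' := by simp [Ψ]
      smul_mem' := fun a s hs => by
        show Ψ (a • s) ∈ I
        rw [hsmul]; exact I.mul_mem_left _ hs }
  obtain ⟨T, hT⟩ := (IsNoetherian.noetherian M : M.FG)
  refine ⟨insert (ev F) (T.image Ψ), le_antisymm (Ideal.span_le.2 ?_) fun φ hφ => ?_⟩
  · intro x hx
    simp only [Finset.coe_insert, Finset.coe_image, Set.mem_insert_iff, Set.mem_image] at hx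
    obtain rfl | ⟨s, hs, rfl⟩ := hx
    · exact hF
    · exact (hT ▸ Submodule.subset_span hs : s ∈ M)
  obtain ⟨q, s, rfl⟩ := exists_division_germ F d hd hlt φ
  refine add_mem (Ideal.mul_mem_left _ _ (Ideal.subset_span (by simp))) ?_
  have hs : s ∈ M := by
    show Ψ s ∈ I
    simpa [Ψ] using I.sub_mem hφ (I.mul_mem_left q hF)
  rw [← hT] at hs
  change Ψ s ∈ _
  clear hφ
  induction hs using Submodule.span_induction with
  | mem x hx => exact Ideal.subset_span (by simp only [Finset.coe_insert, Finset.coe_image]; exact Or.inr ⟨x, hx, rfl⟩)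
  | zero => simp [Ψ]
  | add x y _ _ hx hy => rw [hadd]; exact add_mem hx hy
  | smul a x _ hx => rw [hsmul]; exact Ideal.mul_mem_left _ _ hx

/-- Change of linear coordinates. -/
def linComp (L : (Fin n → ℂ) ≃L[ℂ] (Fin n → ℂ)) : hol0 n →+* hol0 n where
  toFun φ := ⟨(φ : Germ (𝓝 (0 : Fin n → ℂ)) ℂ).compTendsto L (by simpa using L.continuous.tendsto 0), by
    obtain ⟨G, R, hR, hG, hφ⟩ := exists_gm φ
    obtain ⟨δ, hδ, hsub⟩ := Metric.mem_nhds_iff.1 ((L.continuous.tendsto 0) (by rw [map_zero]; exact ball_mem_nhds _ hR))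
    exact ⟨G ∘ L, δ, hδ, hG.comp L.differentiable.differentiableOn hsub, by rw [hφ]; rfl⟩⟩
  map_one' := rfl
  map_mul' φ ψ := Subtype.ext (by
    obtain ⟨G, _, -, -, hG⟩ := exists_gm φ; obtain ⟨H, _, -, -, hH⟩ := exists_gm ψ
    simp only [Subring.coe_mul, hG, hH]; rfl)
  map_zero' := rfl
  map_add' φ ψ := Subtype.ext (by
    obtain ⟨G, _, -, -, hG⟩ := exists_gm φ; obtain ⟨H, _, -, -, hH⟩ := exists_gm ψ
    simp only [Subring.coe_add, hG, hH]; rfl)

theorem coe_linComp (L : (Fin n → ℂ) ≃L[ℂ] (Fin n → ℂ)) {φ : hol0 n} {G : (Fin n → ℂ) → ℂ}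
    (h : (φ : Germ (𝓝 (0 : Fin n → ℂ)) ℂ) = ↑G) :
    ((linComp L φ : hol0 n) : Germ (𝓝 (0 : Fin n → ℂ)) ℂ) = ↑(G ∘ L) := by
  exact compTendsto_of_eq h L (by simpa using L.continuous.tendsto 0)

theorem linComp_symm (L : (Fin n → ℂ) ≃L[ℂ] (Fin n → ℂ)) (φ : hol0 n) : linComp L.symm (linComp L φ) = φ := by
  obtain ⟨G, _, -, -, hG⟩ := exists_gm φ
  refine Subtype.ext ?_
  rw [coe_linComp L.symm (coe_linComp L hG), hG]
  exact Germ.coe_eq.2 (Eventually.of_forall fun z => by simp)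

/-- Change of coordinates making a nonzero germ regular in the first variable. -/
theorem exists_regular (φ : hol0 (n + 1)) (hφ : φ ≠ 0) :
    ∃ (L : (Fin (n + 1) → ℂ) ≃L[ℂ] (Fin (n + 1) → ℂ)) (F : cv (n + 1)) (d : ℕ), ev F = linComp L φ ∧
      coeff (Finsupp.single 0 d) F.1 ≠ 0 ∧ ∀ i < d, coeff (Finsupp.single 0 i) F.1 = 0 := by
  classical
  obtain ⟨G, R, hR, hG, hφG⟩ := exists_gm φ
  obtain ⟨u, hu, hGu⟩ : ∃ u ∈ ball (0 : Fin (n + 1) → ℂ) R, G u ≠ 0 := by
    by_contra! hcon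
    refine hφ (Subtype.ext ?_)
    rw [hφG]
    exact Germ.coe_eq.2 (eventually_of_mem (ball_mem_nhds _ hR) hcon)
  obtain ⟨v, t₀, hv, hvR, ht₀, hGv⟩ : ∃ (v : Fin (n + 1) → ℂ) (t₀ : ℂ), v ≠ 0 ∧ ‖v‖ < R ∧ ‖t₀‖ ≤ 1 ∧ G (t₀ • v) ≠ 0 := by
    by_cases hu0 : u = 0
    · subst hu0
      refine ⟨Pi.single 0 ((R / 2 : ℝ) : ℂ), 0, by simp [hR.ne'], ?_, by simp, by simpa using hGu⟩
      rw [Pi.norm_single, Complex.norm_real, Real.norm_of_nonneg (by linarith)]
      linarith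
    · exact ⟨u, 1, hu0, mem_ball_zero_iff.1 hu, by simp, by simpa using hGu⟩
  obtain ⟨j, hj⟩ := Function.ne_iff.1 hv
  let L₀ : (Fin (n + 1) → ℂ) →ₗ[ℂ] (Fin (n + 1) → ℂ) :=
    (LinearMap.proj (R := ℂ) (φ := fun _ : Fin (n + 1) => ℂ) 0).smulRight v +
      LinearMap.pi (Fin.insertNth (α := fun _ => (Fin (n + 1) → ℂ) →ₗ[ℂ] ℂ) j 0 fun i => LinearMap.proj i.succ)
  have hL₀ : ∀ z i, L₀ z i = z 0 * v i + Fin.insertNth (α := fun _ => ℂ) j 0 (Fin.tail z) i := fun z i => by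
    refine Fin.succAboveCases j ?_ (fun k => ?_) i <;> simp [L₀, Fin.tail]
  have hinj : Function.Injective L₀ := by
    refine (injective_iff_map_eq_zero L₀).2 fun z hz => ?_
    have h0 : z 0 = 0 := by
      have := congrFun hz j
      rw [hL₀, Fin.insertNth_apply_same, add_zero, Pi.zero_apply, mul_eq_zero] at this
      exact this.resolve_right hj
    refine funext (Fin.cases h0 fun k => ?_)
    have := congrFun hz (j.succAbove k)
    rwa [hL₀, Fin.insertNth_apply_succAbove, h0, zero_mul, zero_add, Pi.zero_apply] at this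
  let L := (LinearEquiv.ofInjectiveEndo L₀ hinj).toContinuousLinearEquiv
  have hLe : ∀ t : ℂ, L (Pi.single 0 t) = t • v := fun t => funext fun i => by
    change L₀ (Pi.single 0 t) i = _
    rw [hL₀]
    refine Fin.succAboveCases j ?_ (fun k => ?_) i <;> simp [Fin.tail, Fin.succ_ne_zero]
  obtain ⟨F, hF⟩ := ev_surjective (linComp L φ)
  refine ⟨L, F, ?_⟩
  by_cases hex : ∃ i, coeff (Finsupp.single 0 i) F.1 ≠ 0
  · exact ⟨Nat.find hex, hF, Nat.find_spec hex, fun i hi => not_not.1 (Nat.find_min hex hi)⟩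
  exfalso
  push Not at hex
  have hF' : (↑(sumFun F.1) : Germ (𝓝 (0 : Fin (n + 1) → ℂ)) ℂ) = ↑(G ∘ L) := by
    rw [← coe_ev, hF, coe_linComp L hφG]
  have h0 : ∀ t : ℂ, sumFun F.1 (Pi.single 0 t) = 0 := fun t => by
    refine (tsum_congr fun α => ?_).trans tsum_zero
    by_cases hα : α = Finsupp.single 0 (α 0)
    · rw [hα, hex, zero_mul]
    · obtain ⟨k, hk⟩ : ∃ k : Fin n, α k.succ ≠ 0 := by
        by_contra! hcon
        exact hα (Finsupp.ext (Fin.cases (by simp) fun k => by simp [hcon k, Fin.succ_ne_zero]))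
      rw [mon, Finset.prod_eq_zero (Finset.mem_univ k.succ) (by simp [Fin.succ_ne_zero, hk]), mul_zero]
  have hb : ∀ t ∈ ball (0 : ℂ) (R / ‖v‖), t • v ∈ ball (0 : Fin (n + 1) → ℂ) R := fun t ht => by
    rw [mem_ball_zero_iff] at ht ⊢
    rw [norm_smul]
    exact (lt_div_iff₀ (norm_pos_iff.2 hv)).1 ht
  have hev : (fun t : ℂ => G (t • v)) =ᶠ[𝓝 0] 0 := by
    have hk : Tendsto (fun t : ℂ => (Pi.single 0 t : Fin (n + 1) → ℂ)) (𝓝 0) (𝓝 0) := by
      simpa using (continuous_single (A := fun _ : Fin (n + 1) => ℂ) 0).tendsto (0 : ℂ)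
    have := (Germ.coe_eq.1 hF').comp_tendsto hk
    filter_upwards [this] with t ht
    simp only [Function.comp_apply, h0, hLe] at ht
    exact ht.symm
  have han : AnalyticOnNhd ℂ (fun t : ℂ => G (t • v)) (ball (0 : ℂ) (R / ‖v‖)) :=
    DifferentiableOn.analyticOnNhd (hG.comp (differentiable_id.smul_const v).differentiableOn hb) isOpen_ball
  exact hGv (han.eqOn_zero_of_preconnected_of_eventuallyEq_zero (convex_ball _ _).isPreconnected
    (mem_ball_self (div_pos hR (norm_pos_iff.2 hv))) hev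
    (mem_ball_zero_iff.2 (ht₀.trans_lt ((one_lt_div (norm_pos_iff.2 hv)).2 hvR))))

instance isNoetherianRing_hol0 : ∀ n : ℕ, IsNoetherianRing (hol0 n)
  | 0 => by
    let c : ℂ →+* hol0 0 :=
      { toFun := fun a => gm (fun _ => a) ⟨1, one_pos, differentiableOn_const _⟩
        map_one' := rfl, map_mul' := fun _ _ => rfl, map_zero' := rfl, map_add' := fun _ _ => rfl }
    refine isNoetherianRing_of_surjective ℂ _ c fun φ => ?_
    obtain ⟨G, _, -, -, hG⟩ := exists_gm φ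
    refine ⟨G 0, Subtype.ext ?_⟩
    rw [hG]
    exact Germ.coe_eq.2 (Eventually.of_forall fun z => by rw [Subsingleton.elim z 0])
  | n + 1 => by
    haveI := isNoetherianRing_hol0 n
    refine ⟨fun I => ?_⟩
    rcases eq_or_ne I ⊥ with rfl | hI
    · exact Submodule.fg_bot
    obtain ⟨φ, hφI, hφ⟩ := Submodule.exists_mem_ne_zero_of_ne_bot hI
    obtain ⟨L, F, d, hF, hd, hlt⟩ := exists_regular φ hφ
    have h1 : (Ideal.map (linComp L) I).FG := fg_of_regular (Ideal.map (linComp L) I) F (by rw [hF]; exact Ideal.mem_map_of_mem (linComp L) hφI) d hd hlt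
    have h2 := h1.map (linComp L.symm)
    rwa [Ideal.map_map, show (linComp L.symm).comp (linComp L) = RingHom.id _ from RingHom.ext (linComp_symm L),
      Ideal.map_id] at h2

/-- The maximal ideal is generated by the coordinates. -/
theorem maximalIdeal_eq_span : ∀ n : ℕ, IsLocalRing.maximalIdeal (hol0 n) = Ideal.span (Set.range (crd (n := n))) := by
  intro n
  refine le_antisymm ?_ (Ideal.span_le.2 ?_)
  · rw [maximalIdeal_eq_ker]
    induction n with
    | zero =>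
      intro φ hφ
      obtain ⟨G, _, -, -, hG⟩ := exists_gm φ
      rw [RingHom.mem_ker] at hφ
      change Germ.value (φ : Germ (𝓝 (0 : Fin 0 → ℂ)) ℂ) = 0 at hφ
      rw [hG] at hφ
      have : φ = 0 := Subtype.ext (by
        rw [hG]
        exact Germ.coe_eq.2 (Eventually.of_forall fun z => by rw [Subsingleton.elim z 0]; exact hφ))
      rw [this]; exact zero_mem _
    | succ n ih =>
      intro φ hφ
      obtain ⟨q, s, rfl⟩ := exists_division_germ ⟨X 0, conv_X 0⟩ 1 (by classical simp [coeff_X])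
        (fun i hi => by classical simp [Nat.lt_one_iff.1 hi, coeff_X, eq_comm (a := (0 : Fin (n + 1) →₀ ℕ))]) φ
      simp only [Fin.sum_univ_one, Fin.val_zero, pow_zero, mul_one, ev_X] at hφ ⊢
      refine add_mem (Ideal.mul_mem_left _ _ (Ideal.subset_span ⟨0, rfl⟩)) ?_
      have hs : ev0 (s 0) = 0 := by
        rw [RingHom.mem_ker, map_add, map_mul, show ev0 (crd (0 : Fin (n + 1))) = 0 from rfl, mul_zero, zero_add] at hφ
        obtain ⟨G, _, -, -, hG⟩ := exists_gm (s 0)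
        change Germ.value ((s 0 : hol0 n) : Germ (𝓝 (0 : Fin n → ℂ)) ℂ) = 0
        change Germ.value ((pull (s 0) : hol0 (n + 1)) : Germ (𝓝 (0 : Fin (n + 1) → ℂ)) ℂ) = 0 at hφ
        rw [coe_pull hG] at hφ
        rw [hG]
        change G (Fin.tail (0 : Fin (n + 1) → ℂ)) = 0 at hφ
        exact hφ
      have h1 := Ideal.mem_map_of_mem (pull (n := n)) (ih (show s 0 ∈ RingHom.ker (ev0 (n := n)) from hs))
      rw [Ideal.map_span] at h1
      refine Ideal.span_mono ?_ h1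
      rintro _ ⟨_, ⟨i, rfl⟩, rfl⟩
      exact ⟨i.succ, (pull_crd i).symm⟩
  · rintro _ ⟨i, rfl⟩
    rw [SetLike.mem_coe, maximalIdeal_eq_ker, RingHom.mem_ker]
    rfl

end

end Groth.Agent.AnStalkLib
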