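import Mathlib
import Groth.Agent.AnPts.Dense
import Groth.Agent.AnConn.Branch

/-! A function on an affine variety vanishing to high order along the complex points lies in a high power of the
maximal ideal: traces along a Noether normalisation. -/

set_option autoImplicit false
set_option maxHeartbeats 800000

open Filter Topology Polynomial

namespace Groth.Agent.AnStalkLib

open Groth.Agent.AnPts

noncomputable section

/-- Vanishing to order `M` along the points near `φ`. -/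
def Bd {A : Type*} [CommRing A] [Algebra ℂ A] (φ : A →ₐ[ℂ] ℂ) (M : ℕ) (a : A) : Prop :=
  ∃ s : Finset A, (∀ x ∈ s, φ x = 0) ∧ ∃ C : ℝ,
    ∀ᶠ f in 𝓝[homSet A] (φ : A → ℂ), ‖f a‖ ≤ C * (∑ x ∈ s, ‖f x‖) ^ M

theorem Bd.map {A B : Type*} [CommRing A] [Algebra ℂ A] [CommRing B] [Algebra ℂ B] (π : A →ₐ[ℂ] B) (φ : B →ₐ[ℂ] ℂ)
    {M : ℕ} {a : A} (h : Bd (φ.comp π) M a) : Bd φ M (π a) := by
  classical
  obtain ⟨s, hs, C, hC⟩ := h
  refine ⟨s.image π, fun y hy => ?_, |C| * (s.card : ℝ) ^ M, ?_⟩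
  · obtain ⟨x, hx, rfl⟩ := Finset.mem_image.1 hy
    exact hs x hx
  have hcont : Tendsto (fun f : B → ℂ => f ∘ π) (𝓝[homSet B] (φ : B → ℂ)) (𝓝[homSet A] ((φ.comp π : A →ₐ[ℂ] ℂ) : A → ℂ)) := by
    refine ((continuous_pi fun a => continuous_apply (π a)).continuousWithinAt).tendsto_nhdsWithin ?_
    rintro _ ⟨ψ, rfl⟩
    exact ⟨ψ.comp π, rfl⟩
  filter_upwards [hcont.eventually hC] with f hf
  refine hf.trans ((mul_le_mul_of_nonneg_right (le_abs_self C) (by positivity)).trans ?_)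
  rw [mul_assoc, ← mul_pow]
  refine mul_le_mul_of_nonneg_left (pow_le_pow_left₀ (by positivity) ?_ M) (abs_nonneg C)
  calc ∑ x ∈ s, ‖f (π x)‖ ≤ ∑ _x ∈ s, ∑ y ∈ s.image π, ‖f y‖ := by
        refine Finset.sum_le_sum fun x hx => ?_
        exact Finset.single_le_sum (f := fun y => ‖f y‖) (fun y _ => norm_nonneg _) (Finset.mem_image_of_mem π hx)
    _ = _ := by rw [Finset.sum_const, nsmul_eq_mul]

theorem eval_smul_of_isHomogeneous {d j : ℕ} {p : MvPolynomial (Fin d) ℂ} (hp : p.IsHomogeneous j) (t : ℂ) (v : Fin d → ℂ) :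
    MvPolynomial.eval (t • v) p = t ^ j * MvPolynomial.eval v p := by
  rw [MvPolynomial.eval_eq', MvPolynomial.eval_eq', Finset.mul_sum]
  refine Finset.sum_congr rfl fun α hα => ?_
  have hd : Finsupp.weight 1 α = j := hp (MvPolynomial.mem_support_iff.1 hα)
  have hd' : ∑ i, α i = j := by
    rw [← hd]; simp [Finsupp.weight_apply, Finsupp.sum_fintype]
  simp only [Pi.smul_apply, smul_eq_mul, mul_pow, Finset.prod_mul_distrib, Finset.prod_pow_eq_pow_sum, hd']
  ring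

/-- A polynomial which is small of order `k` at the origin lies in the `k`-th power of its ideal. -/
theorem mem_pow_of_bound {d : ℕ} (W : MvPolynomial (Fin d) ℂ) (k : ℕ) (C : ℝ) (D : MvPolynomial (Fin d) ℂ) (hD : D ≠ 0)
    (h : ∀ᶠ v in 𝓝 (0 : Fin d → ℂ), MvPolynomial.eval v D ≠ 0 → ‖MvPolynomial.eval v W‖ ≤ C * ‖v‖ ^ k) :
    W ∈ Ideal.span (Set.range (MvPolynomial.X : Fin d → MvPolynomial (Fin d) ℂ)) ^ k := by
  classical
  obtain ⟨ε, hε, hball⟩ := Metric.eventually_nhds_iff_ball.1 h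
  have hall : ∀ v ∈ Metric.ball (0 : Fin d → ℂ) ε, ‖MvPolynomial.eval v W‖ ≤ C * ‖v‖ ^ k := by
    intro v hv
    by_contra! hlt
    have hopen : IsOpen ({w : Fin d → ℂ | C * ‖w‖ ^ k < ‖MvPolynomial.eval w W‖} ∩ Metric.ball 0 ε) :=
      (isOpen_lt (continuous_const.mul (continuous_norm.pow k)) (MvPolynomial.continuous_eval W).norm).inter Metric.isOpen_ball
    obtain ⟨r, hr, hsub⟩ := Metric.isOpen_iff.1 hopen v ⟨hlt, hv⟩
    obtain ⟨w, hw, hwD⟩ : ∃ w, dist w v < r ∧ MvPolynomial.eval w D ≠ 0 := by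
      by_contra hcon
      push Not at hcon
      refine hD (MvPolynomial.funext_set (fun i => Metric.ball (v i) r) (fun i => ?_) fun x hx => ?_)
      · exact infinite_of_mem_nhds (v i) (Metric.ball_mem_nhds _ hr)
      · rw [map_zero]
        exact hcon x ((dist_pi_lt_iff hr).2 fun i => hx i trivial)
    exact (hsub hw).1.not_ge (hball w (hsub hw).2 hwD)
  have hcomp : ∀ i < k, MvPolynomial.homogeneousComponent i W = 0 := by
    intro i hi
    refine MvPolynomial.funext fun v => ?_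
    rw [map_zero]
    let p : ℂ[X] := ∑ j ∈ Finset.range (W.totalDegree + 1),
      Polynomial.monomial j (MvPolynomial.eval v (MvPolynomial.homogeneousComponent j W))
    have hp : ∀ t : ℂ, p.eval t = MvPolynomial.eval (t • v) W := fun t => by
      conv_rhs => rw [← MvPolynomial.sum_homogeneousComponent W, map_sum]
      simp only [p, Polynomial.eval_finsetSum, Polynomial.eval_monomial]
      refine Finset.sum_congr rfl fun j _ => ?_
      rw [eval_smul_of_isHomogeneous (MvPolynomial.homogeneousComponent_isHomogeneous j W)]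
      ring
    have hbd : ∀ᶠ t in 𝓝 (0 : ℂ), ‖p.eval t‖ ≤ |C| * ‖v‖ ^ k * ‖t‖ ^ k := by
      have ht : Tendsto (fun t : ℂ => t • v) (𝓝 0) (𝓝 0) := by
        have hc : Continuous fun t : ℂ => t • v := continuous_id.smul continuous_const
        simpa using hc.tendsto 0
      filter_upwards [ht.eventually (Metric.ball_mem_nhds (0 : Fin d → ℂ) hε)] with t hts
      rw [hp]
      refine (hall _ hts).trans ?_
      rw [norm_smul, mul_pow, mul_assoc, mul_comm (‖v‖ ^ k)]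
      exact mul_le_mul_of_nonneg_right (le_abs_self C) (by positivity)
    have hz : ∀ j < k, p.coeff j = 0 := by
      intro j
      induction j using Nat.strong_induction_on with
      | _ j ih =>
        intro hj
        obtain ⟨q, hq⟩ := (Polynomial.X_pow_dvd_iff.2 fun l hl => ih l hl (hl.trans hj) : (Polynomial.X : ℂ[X]) ^ j ∣ p)
        have hq0 : p.coeff j = q.eval 0 := by rw [hq, Polynomial.coeff_X_pow_mul' q j j, if_pos le_rfl, Nat.sub_self, Polynomial.coeff_zero_eq_eval_zero]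
        rw [hq0]
        have h1 : Tendsto (fun t : ℂ => q.eval t) (𝓝[≠] 0) (𝓝 (q.eval 0)) :=
          q.continuous.continuousAt.continuousWithinAt
        refine tendsto_nhds_unique h1 (squeeze_zero_norm' (a := fun t : ℂ => |C| * ‖v‖ ^ k * ‖t‖ ^ (k - j)) ?_ ?_)
        · filter_upwards [nhdsWithin_le_nhds hbd, self_mem_nhdsWithin] with t ht htne
          rw [hq, Polynomial.eval_mul, Polynomial.eval_pow, Polynomial.eval_X, norm_mul, norm_pow,
            show k = j + (k - j) by omega, pow_add (‖t‖)] at ht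
          rw [show j + (k - j) = k by omega] at ht
          have ht0 : 0 < ‖t‖ ^ j := pow_pos (norm_pos_iff.2 htne) j
          exact le_of_mul_le_mul_left (ht.trans (le_of_eq (by ring))) ht0
        · refine Tendsto.mono_left ?_ nhdsWithin_le_nhds
          have hc : Continuous fun t : ℂ => |C| * ‖v‖ ^ k * ‖t‖ ^ (k - j) := continuous_const.mul (continuous_norm.pow _)
          have := hc.tendsto 0
          simpa [zero_pow (by omega : k - j ≠ 0)] using this
    have := hz i hi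
    simp only [p, Polynomial.finsetSum_coeff, Polynomial.coeff_monomial, Finset.sum_ite_eq', Finset.mem_range] at this
    split at this
    · exact this
    · rw [MvPolynomial.homogeneousComponent_eq_zero i W (by omega), map_zero]
  rw [MvPolynomial.as_sum W]
  refine Ideal.sum_mem _ fun α hα => ?_
  have hk : k ≤ ∑ i, α i := by
    by_contra! hlt
    have := congrArg (MvPolynomial.coeff α) (hcomp _ hlt)
    rw [MvPolynomial.coeff_homogeneousComponent, if_pos (by rw [Finsupp.degree_eq_sum]), MvPolynomial.coeff_zero] at this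
    exact MvPolynomial.mem_support_iff.1 hα this
  rw [MvPolynomial.monomial_eq, Finsupp.prod_fintype _ _ fun i => pow_zero _]
  refine Ideal.mul_mem_left _ _ (Ideal.pow_le_pow_right hk ?_)
  rw [← Finset.prod_pow_eq_pow_sum]
  exact Ideal.prod_mem_prod fun i _ => Ideal.pow_mem_pow (Ideal.subset_span (Set.mem_range_self i)) _

/-- Power sums of the roots are polynomials in the coefficients. -/
theorem exists_psum {P : Type*} [CommRing P] (f : P[X]) (k : ℕ) :
    ∃ s : P, ∀ (e : P →+* ℂ) (t : Fin f.natDegree → ℂ), f.map e = ∏ i, (Polynomial.X - Polynomial.C (t i)) →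
      e s = ∑ i, t i ^ k := by
  classical
  set r := f.natDegree
  obtain ⟨Q, hQ⟩ := (MvPolynomial.esymmAlgHom_fin_bijective ℤ r).2 ⟨MvPolynomial.psum (Fin r) ℤ k, MvPolynomial.psum_isSymmetric (Fin r) ℤ k⟩
  refine ⟨MvPolynomial.eval₂ (Int.castRingHom P) (fun i : Fin r => (-1) ^ ((i : ℕ) + 1) * f.coeff (r - ((i : ℕ) + 1))) Q, fun e t ht => ?_⟩
  rw [MvPolynomial.eval₂_comp_left e, show e.comp (Int.castRingHom P) = Int.castRingHom ℂ from RingHom.ext_int _ _]
  have hco : ∀ i : Fin r, e ((-1) ^ ((i : ℕ) + 1) * f.coeff (r - ((i : ℕ) + 1))) =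
      MvPolynomial.aeval t (MvPolynomial.esymm (Fin r) ℤ ((i : ℕ) + 1)) := fun i => by
    rw [map_mul, map_pow, map_neg, map_one, MvPolynomial.aeval_esymm_eq_multiset_esymm,
      ← Polynomial.coeff_map e, ht]
    have h1 : (∏ i, (Polynomial.X - Polynomial.C (t i))) =
        ((Finset.univ.val.map t).map fun z => Polynomial.X - Polynomial.C z).prod := by
      rw [Multiset.map_map]; rfl
    rw [h1, Multiset.prod_X_sub_C_coeff _ (by simp), ← mul_assoc]
    simp only [Multiset.card_map, Finset.card_val, Finset.card_univ, Fintype.card_fin]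
    rw [show r - (r - ((i : ℕ) + 1)) = (i : ℕ) + 1 by omega, ← pow_add, ← two_mul, pow_mul, neg_one_sq, one_pow, one_mul]
  have := congrArg (fun p : MvPolynomial.symmetricSubalgebra (Fin r) ℤ => MvPolynomial.aeval t (p : MvPolynomial (Fin r) ℤ)) hQ
  simp only [MvPolynomial.esymmAlgHom_apply, MvPolynomial.psum, map_sum, map_pow, MvPolynomial.aeval_X] at this
  rw [← this, ← AlgHom.comp_apply, MvPolynomial.comp_aeval, MvPolynomial.aeval_def]
  congr 1
  exact funext fun i => hco i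

section Domain

variable {A : Type*} [CommRing A] [IsDomain A] [Algebra ℂ A] [Algebra.FiniteType ℂ A]
  {d : ℕ} [Algebra (MvPolynomial (Fin d) ℂ) A] [IsScalarTower ℂ (MvPolynomial (Fin d) ℂ) A]
  [Module.Finite (MvPolynomial (Fin d) ℂ) A]

local notation "P" => MvPolynomial (Fin d) ℂ

/-- The main estimate. -/
theorem exists_delta (hinj : Function.Injective (algebraMap P A)) (φ : A →ₐ[ℂ] ℂ)
    (hφ : coords (d := d) (φ : A → ℂ) = 0) :
    ∃ δ : A, δ ≠ 0 ∧ ∀ k, 0 < k → ∃ M, ∀ a, Bd φ M a → δ * a ∈ RingHom.ker φ ^ k := by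
  classical
  haveI : Algebra.IsIntegral P A := Algebra.IsIntegral.of_finite P A
  haveI : IsNoetherianRing A := Algebra.FiniteType.isNoetherianRing ℂ A
  obtain ⟨a₀, D, hD, hA, u, w, hbez⟩ := Groth.Agent.AnConn.exists_primitive (d := d) (A := A) hinj
  set f := minpoly P a₀ with hf
  have hfm : f.Monic := minpoly.monic (Algebra.IsIntegral.isIntegral a₀)
  set r := f.natDegree with hr
  choose s hs using exists_psum f
  -- the roots over a good point
  have hroots : ∀ v : Fin d → ℂ, MvPolynomial.eval v D ≠ 0 → ∃ t : Fin r → ℂ, Function.Injective t ∧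
      f.map (MvPolynomial.eval v) = ∏ i, (Polynomial.X - Polynomial.C (t i)) := by
    intro v hv
    have hm : (f.map (MvPolynomial.eval v)).Monic := hfm.map _
    have hsep : (f.map (MvPolynomial.eval v)).Separable := by
      have := congrArg (Polynomial.map (MvPolynomial.eval v)) hbez
      rw [Polynomial.map_add, Polynomial.map_mul, Polynomial.map_mul, Polynomial.map_C, ← Polynomial.derivative_map] at this
      refine ⟨Polynomial.C (MvPolynomial.eval v D)⁻¹ * u.map (MvPolynomial.eval v),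
        Polynomial.C (MvPolynomial.eval v D)⁻¹ * w.map (MvPolynomial.eval v), ?_⟩
      rw [mul_assoc, mul_assoc, ← mul_add, this, ← Polynomial.C_mul, inv_mul_cancel₀ hv, Polynomial.C_1]
    have hsp := IsAlgClosed.splits (f.map (MvPolynomial.eval v))
    have hnd := Polynomial.nodup_roots hsep
    have hcard : (f.map (MvPolynomial.eval v)).roots.toFinset.card = r := by
      rw [Multiset.toFinset_card_of_nodup hnd, ← hsp.natDegree_eq_card_roots, hfm.natDegree_map]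
    let e := Finset.equivFinOfCardEq hcard
    refine ⟨fun i => (e.symm i : ℂ), Subtype.val_injective.comp e.symm.injective, ?_⟩
    have h3 := Fintype.prod_equiv e.symm (fun i => Polynomial.X - Polynomial.C ((e.symm i : ℂ)))
      (fun z : (f.map (MvPolynomial.eval v)).roots.toFinset => Polynomial.X - Polynomial.C (z : ℂ)) fun i => rfl
    refine (hsp.eq_prod_roots_of_monic hm).trans (Eq.trans ?_ h3.symm)
    rw [Finset.prod_coe_sort (f.map (MvPolynomial.eval v)).roots.toFinset fun z => Polynomial.X - Polynomial.C z,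
      Finset.prod_eq_multiset_prod, Multiset.toFinset_val, hnd.dedup]
  let S : Matrix (Fin r) (Fin r) P := Matrix.of fun i j => s ((i : ℕ) + j)
  have hS : S.det ≠ 0 := by
    intro h0
    obtain ⟨v, hv⟩ : ∃ v : Fin d → ℂ, MvPolynomial.eval v D ≠ 0 := by
      by_contra! hcon
      exact hD (MvPolynomial.funext fun v => by rw [hcon, map_zero])
    obtain ⟨t, htinj, ht⟩ := hroots v hv
    have h1 : S.map (MvPolynomial.eval v) = (Matrix.vandermonde t).transpose * Matrix.vandermonde t := by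
      ext i j
      simp only [Matrix.map_apply, S, Matrix.of_apply, Matrix.mul_apply, Matrix.transpose_apply, Matrix.vandermonde_apply]
      rw [hs _ _ t ht]
      simp only [Matrix.of_apply, Matrix.vandermonde_apply, pow_add]
      exact Finset.sum_congr rfl fun _ _ => rfl
    have h2 := congrArg (MvPolynomial.eval v) h0
    rw [RingHom.map_det, map_zero, RingHom.mapMatrix_apply, h1, Matrix.det_mul, Matrix.det_transpose, mul_self_eq_zero] at h2
    exact Matrix.det_vandermonde_ne_zero_iff.2 htinj h2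
  refine ⟨algebraMap P A (S.det * D), fun h => mul_ne_zero hS hD (hinj (h.trans (map_zero _).symm)), fun k hk => ?_⟩
  -- the fibre over the origin
  let T : Finset (A →ₐ[ℂ] ℂ) := (finite_fibre (A := A) (0 : Fin d → ℂ)).toFinset
  have hT : ∀ ψ, ψ ∈ T ↔ coords (d := d) (ψ : A → ℂ) = 0 := fun ψ => (finite_fibre _).mem_toFinset
  let y : Ideal A := Ideal.span (Set.range fun i : Fin d => algebraMap P A (MvPolynomial.X i))
  obtain ⟨N₀, hN₀⟩ := Ideal.exists_radical_pow_le_of_fg y (IsNoetherian.noetherian _)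
  obtain ⟨N, hNdef⟩ : ∃ N, N = N₀ + 1 := ⟨_, rfl⟩
  have hN : y.radical ^ N ≤ y := (Ideal.pow_le_pow_right (by omega)).trans hN₀
  have hrad : ∀ z : A, (∀ ψ ∈ T, ψ z = 0) → z ^ N ∈ y := fun z hz => by
    refine hN (Ideal.pow_mem_pow ?_ N)
    haveI : IsJacobsonRing A := isJacobsonRing_of_finiteType (A := ℂ) (B := A)
    rw [Ideal.radical_eq_jacobson, Ideal.jacobson, Ideal.mem_sInf]
    rintro Q ⟨hyQ, hQ⟩
    haveI := hQ
    obtain ⟨ψ, rfl⟩ := exists_algHom_of_isMaximal Q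
    refine hz ψ ((hT ψ).2 (funext fun i => ?_))
    exact hyQ (Ideal.subset_span ⟨i, rfl⟩)
  have hlocal : ∀ ψ₀ ∈ T, ∀ x : A, ψ₀ x = 0 → ∃ C : ℝ, 0 ≤ C ∧ ∀ᶠ f in 𝓝[homSet A] (ψ₀ : A → ℂ),
      ‖f x‖ ^ N ≤ C * ‖coords (d := d) f‖ := by
    intro ψ₀ hψ₀ x hx
    obtain ⟨u, hu1, hu0⟩ : ∃ u : A, ψ₀ u = 1 ∧ ∀ ψ ∈ T.erase ψ₀, ψ u = 0 := by
      have hj : ∀ ψ ∈ T.erase ψ₀, ∃ z : A, ψ z = 0 ∧ ψ₀ z = 1 := fun ψ hψ => by
        obtain ⟨z, hz⟩ := DFunLike.ne_iff.1 (Finset.mem_erase.1 hψ).1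
        refine ⟨(algebraMap ℂ A ((ψ₀ z - ψ z)⁻¹)) * (z - algebraMap ℂ A (ψ z)), by simp, ?_⟩
        simp only [map_mul, map_sub, AlgHom.commutes, Algebra.algebraMap_self, RingHom.id_apply]
        exact inv_mul_cancel₀ (sub_ne_zero.2 (Ne.symm hz))
      choose z hz0 hz1 using hj
      refine ⟨∏ ψ ∈ (T.erase ψ₀).attach, z ψ.1 ψ.2, by rw [map_prod]; exact Finset.prod_eq_one fun ψ _ => hz1 _ _,
        fun ψ hψ => by rw [map_prod]; exact Finset.prod_eq_zero (Finset.mem_attach _ ⟨ψ, hψ⟩) (hz0 _ _)⟩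
    have hmem : (x * u) ^ N ∈ y := hrad _ fun ψ hψ => by
      rcases eq_or_ne ψ ψ₀ with rfl | hne
      · simp [hx]
      · simp [hu0 ψ (Finset.mem_erase.2 ⟨hne, hψ⟩)]
    obtain ⟨c, hc⟩ := (Submodule.mem_span_range_iff_exists_fun A).1 hmem
    let B : ℝ := ∑ i, (‖ψ₀ (c i)‖ + 1)
    refine ⟨B * 2 ^ N, by positivity, ?_⟩
    have hev : ∀ a : A, Tendsto (fun f : A → ℂ => f a) (𝓝[homSet A] (ψ₀ : A → ℂ)) (𝓝 (ψ₀ a)) := fun a =>
      ((continuous_apply a).tendsto (ψ₀ : A → ℂ)).mono_left nhdsWithin_le_nhds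
    have h1 : ∀ᶠ f in 𝓝[homSet A] (ψ₀ : A → ℂ), (1 / 2 : ℝ) < ‖f u‖ :=
      (hev u).norm.eventually (lt_mem_nhds (by rw [hu1]; norm_num))
    have h2 : ∀ᶠ f in 𝓝[homSet A] (ψ₀ : A → ℂ), ∀ i, ‖f (c i)‖ ≤ ‖ψ₀ (c i)‖ + 1 :=
      eventually_all.2 fun i => ((hev (c i)).norm.eventually (gt_mem_nhds (lt_add_one _))).mono fun f hf => hf.le
    filter_upwards [h1, h2, self_mem_nhdsWithin] with f hfu hfc ⟨ψ, hψ⟩
    subst hψ
    have hv : ∀ i, ‖ψ (algebraMap P A (MvPolynomial.X i))‖ ≤ ‖coords (d := d) (ψ : A → ℂ)‖ := fun i =>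
      norm_le_pi_norm (coords (d := d) (ψ : A → ℂ)) i
    have hb : ‖ψ x‖ ^ N * ‖ψ u‖ ^ N ≤ B * ‖coords (d := d) (ψ : A → ℂ)‖ := by
      rw [← mul_pow, ← norm_mul, ← map_mul, ← norm_pow, ← map_pow, ← hc, map_sum]
      refine (norm_sum_le _ _).trans ?_
      rw [Finset.sum_mul]
      refine Finset.sum_le_sum fun i _ => ?_
      rw [smul_eq_mul, map_mul, norm_mul]
      exact mul_le_mul (hfc i) (hv i) (norm_nonneg _) (by positivity)
    have h3 : ((1 : ℝ) / 2) ^ N ≤ ‖ψ u‖ ^ N := pow_le_pow_left₀ (by norm_num) hfu.le N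
    calc ‖ψ x‖ ^ N = ‖ψ x‖ ^ N * ((1 : ℝ) / 2) ^ N * 2 ^ N := by rw [mul_assoc, ← mul_pow]; norm_num
      _ ≤ ‖ψ x‖ ^ N * ‖ψ u‖ ^ N * 2 ^ N := by gcongr
      _ ≤ B * ‖coords (d := d) (ψ : A → ℂ)‖ * 2 ^ N := by gcongr
      _ = B * 2 ^ N * ‖coords (d := d) (ψ : A → ℂ)‖ := by ring
  have hφT : φ ∈ T := (hT φ).2 hφ
  obtain ⟨h, hh1, hh0⟩ : ∃ h : A, φ h = 1 ∧ ∀ ψ ∈ T.erase φ, ψ h = 0 := by
    have hj : ∀ ψ ∈ T.erase φ, ∃ z : A, ψ z = 0 ∧ φ z = 1 := fun ψ hψ => by
      obtain ⟨z, hz⟩ := DFunLike.ne_iff.1 (Finset.mem_erase.1 hψ).1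
      refine ⟨(algebraMap ℂ A ((φ z - ψ z)⁻¹)) * (z - algebraMap ℂ A (ψ z)), by simp, ?_⟩
      simp only [map_mul, map_sub, AlgHom.commutes, Algebra.algebraMap_self, RingHom.id_apply]
      exact inv_mul_cancel₀ (sub_ne_zero.2 (Ne.symm hz))
    choose z hz0 hz1 using hj
    refine ⟨∏ ψ ∈ (T.erase φ).attach, z ψ.1 ψ.2, by rw [map_prod]; exact Finset.prod_eq_one fun ψ _ => hz1 _ _,
      fun ψ hψ => by rw [map_prod]; exact Finset.prod_eq_zero (Finset.mem_attach _ ⟨ψ, hψ⟩) (hz0 _ _)⟩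
  refine ⟨N * k, fun a ha => ?_⟩
  set L := N * k + k with hL
  have hLk : k ≤ L := Nat.le_add_left _ _
  obtain ⟨g, hg⟩ : h ^ L ∣ 1 - (1 - h ^ L) ^ L := by
    have := sub_dvd_pow_sub_pow (1 : A) (1 - h ^ L) L
    rwa [sub_sub_cancel, one_pow] at this
  set e : A := 1 - (1 - h ^ L) ^ L with he
  have hz : ∀ ψ₀ ∈ T, ∃ C : ℝ, 0 ≤ C ∧ ∀ᶠ f in 𝓝[homSet A] (ψ₀ : A → ℂ), ‖f (a * e)‖ ≤ C * ‖coords (d := d) f‖ ^ k := by
    intro ψ₀ hψ₀
    have hev : ∀ b : A, Tendsto (fun f : A → ℂ => f b) (𝓝[homSet A] (ψ₀ : A → ℂ)) (𝓝 (ψ₀ b)) := fun b =>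
      ((continuous_apply b).tendsto (ψ₀ : A → ℂ)).mono_left nhdsWithin_le_nhds
    have hb : ∀ b : A, ∀ᶠ f in 𝓝[homSet A] (ψ₀ : A → ℂ), ‖f b‖ ≤ ‖ψ₀ b‖ + 1 := fun b =>
      ((hev b).norm.eventually (gt_mem_nhds (lt_add_one _))).mono fun f hf => hf.le
    rcases eq_or_ne ψ₀ φ with rfl | hne
    · obtain ⟨s, hs, C, hC⟩ := ha
      choose Cx hCx0 hCx using fun x : s => hlocal ψ₀ hψ₀ x.1 (hs _ x.2)
      refine ⟨|C| * ((s.card : ℝ) ^ N₀ * ∑ x, Cx x) ^ k * (‖ψ₀ e‖ + 1), mul_nonneg (mul_nonneg (abs_nonneg C) (pow_nonneg (mul_nonneg (by positivity) (Finset.sum_nonneg fun x _ => hCx0 x)) _)) (by positivity), ?_⟩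
      filter_upwards [hC, eventually_all.2 hCx, hb e, self_mem_nhdsWithin] with f hfa hfx hfe ⟨ψ, hψ⟩
      subst hψ
      beta_reduce at *
      rw [map_mul, norm_mul]
      have h1 : (∑ x ∈ s, ‖ψ x‖) ^ N ≤ ((s.card : ℝ) ^ N₀ * ∑ x, Cx x) * ‖coords (d := d) (ψ : A → ℂ)‖ := by
        calc (∑ x ∈ s, ‖ψ x‖) ^ N ≤ (s.card : ℝ) ^ N₀ * ∑ x ∈ s, ‖ψ x‖ ^ N := by
              rw [hNdef]; exact pow_sum_le_card_mul_sum_pow (fun x _ => norm_nonneg _) N₀
          _ = (s.card : ℝ) ^ N₀ * ∑ x : s, ‖ψ x.1‖ ^ N := by rw [Finset.sum_coe_sort s fun x => ‖ψ x‖ ^ N]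
          _ ≤ (s.card : ℝ) ^ N₀ * ∑ x : s, Cx x * ‖coords (d := d) (ψ : A → ℂ)‖ := by gcongr with x; exact hfx x
          _ = _ := by rw [← Finset.sum_mul, mul_assoc]
      calc ‖ψ a‖ * ‖ψ e‖ ≤ |C| * ((∑ x ∈ s, ‖ψ x‖) ^ N) ^ k * (‖ψ₀ e‖ + 1) := by
            refine mul_le_mul (hfa.trans ?_) hfe (norm_nonneg _) (by positivity)
            rw [← pow_mul]
            exact mul_le_mul_of_nonneg_right (le_abs_self C) (by positivity)
        _ ≤ |C| * (((s.card : ℝ) ^ N₀ * ∑ x, Cx x) * ‖coords (d := d) (ψ : A → ℂ)‖) ^ k * (‖ψ₀ e‖ + 1) := by gcongr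
        _ = _ := by rw [mul_pow]; ring
    · obtain ⟨C, hC0, hC⟩ := hlocal ψ₀ hψ₀ h (hh0 ψ₀ (Finset.mem_erase.2 ⟨hne, hψ₀⟩))
      refine ⟨(‖ψ₀ (a * g)‖ + 1) * C ^ k, by positivity, ?_⟩
      have hsmall : ∀ᶠ f in 𝓝[homSet A] (ψ₀ : A → ℂ), ‖f h‖ ≤ 1 :=
        ((hev h).norm.eventually (gt_mem_nhds (by rw [hh0 ψ₀ (Finset.mem_erase.2 ⟨hne, hψ₀⟩)]; norm_num))).mono fun f hf => hf.le
      filter_upwards [hb (a * g), hC, hsmall, self_mem_nhdsWithin] with f hfag hfh hf1 ⟨ψ, hψ⟩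
      subst hψ
      beta_reduce at *
      rw [hg, show a * (h ^ L * g) = a * g * h ^ L by ring, map_mul, map_pow, norm_mul, norm_pow, mul_assoc (‖ψ₀ (a * g)‖ + 1),
        ← mul_pow]
      refine mul_le_mul hfag ?_ (by positivity) (by positivity)
      calc ‖ψ h‖ ^ L ≤ ‖ψ h‖ ^ (N * k) := pow_le_pow_of_le_one (norm_nonneg _) hf1 (Nat.le_add_right _ _)
        _ = (‖ψ h‖ ^ N) ^ k := pow_mul _ _ _
        _ ≤ _ := pow_le_pow_left₀ (by positivity) hfh k
  choose Cz hCz0 hCz using hz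
  obtain ⟨Z, hZ⟩ : ∃ Z : P[X], algebraMap P A D * (a * e) = aeval a₀ Z := hA _
  set q := Z %ₘ f with hq
  have hqz : algebraMap P A D * (a * e) = aeval a₀ q := by
    rw [hZ]
    conv_lhs => rw [← Polynomial.modByMonic_add_div Z f]
    simp [hq, hf, map_add, map_mul, minpoly.aeval]
  let W : Fin r → P := fun i => ∑ j : Fin r, q.coeff j * s ((i : ℕ) + j)
  have hqsum : ∀ (R : Type) [CommRing R] (g : P →+* R) (x : R), (q.map g).eval x = ∑ j : Fin r, g (q.coeff j) * x ^ (j : ℕ) := by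
    intro R _ g x
    rw [Polynomial.eval_map, Polynomial.eval₂_eq_sum_range' g (n := r) ?_ x, ← Fin.sum_univ_eq_sum_range]
    refine Polynomial.natDegree_modByMonic_lt _ hfm ?_
    intro h1
    have := minpoly.aeval P a₀
    rw [← hf, h1, map_one] at this
    exact one_ne_zero this
  let C₀ : ℝ := ∑ ψ ∈ T.attach, Cz ψ.1 ψ.2
  let E : ℝ := ∑ ψ ∈ T, (‖ψ a₀‖ + 1)
  have hgood : ∀ᶠ v in 𝓝 (0 : Fin d → ℂ), ∀ ψ : A →ₐ[ℂ] ℂ, coords (d := d) (ψ : A → ℂ) = v →
      ‖ψ (a * e)‖ ≤ C₀ * ‖v‖ ^ k ∧ ‖ψ a₀‖ ≤ E := by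
    have hopen : ∀ ψ₀ ∈ T, ∃ U : Set (A → ℂ), IsOpen U ∧ (ψ₀ : A → ℂ) ∈ U ∧ ∀ f ∈ U ∩ homSet A,
        ‖f (a * e)‖ ≤ C₀ * ‖coords (d := d) f‖ ^ k ∧ ‖f a₀‖ ≤ E := by
      intro ψ₀ hψ₀
      have h1 : ∀ᶠ f in 𝓝[homSet A] (ψ₀ : A → ℂ), ‖f (a * e)‖ ≤ C₀ * ‖coords (d := d) f‖ ^ k := by
        filter_upwards [hCz ψ₀ hψ₀] with f hf
        refine hf.trans (mul_le_mul_of_nonneg_right ?_ (by positivity))
        exact Finset.single_le_sum (f := fun ψ : {x // x ∈ T} => Cz ψ.1 ψ.2) (fun ψ _ => hCz0 _ _) (Finset.mem_attach _ ⟨ψ₀, hψ₀⟩)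
      have h2 : ∀ᶠ f in 𝓝[homSet A] (ψ₀ : A → ℂ), ‖f a₀‖ ≤ E := by
        have := (((continuous_apply a₀).tendsto (ψ₀ : A → ℂ)).norm.mono_left (nhdsWithin_le_nhds (s := homSet A))).eventually
          (gt_mem_nhds (lt_add_one ‖ψ₀ a₀‖))
        filter_upwards [this] with f hf
        exact hf.le.trans (Finset.single_le_sum (f := fun ψ : A →ₐ[ℂ] ℂ => ‖ψ a₀‖ + 1) (fun ψ _ => by positivity) hψ₀)
      obtain ⟨U, hU, hmem, hsub⟩ := mem_nhdsWithin.1 (h1.and h2)
      exact ⟨U, hU, hmem, fun f hf => hsub hf⟩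
    choose U hU hUmem hUP using hopen
    let K := homSet A ∩ coords (d := d) ⁻¹' Metric.closedBall (0 : Fin d → ℂ) 1
    have hK : IsCompact (K \ ⋃ (ψ₀) (h : ψ₀ ∈ T), U ψ₀ h) :=
      (isCompact_homSet_over 0).diff (isOpen_iUnion fun ψ₀ => isOpen_iUnion fun h => hU ψ₀ h)
    have h0 : (0 : Fin d → ℂ) ∉ coords (d := d) '' (K \ ⋃ (ψ₀) (h : ψ₀ ∈ T), U ψ₀ h) := by
      rintro ⟨_, ⟨⟨⟨ψ, rfl⟩, -⟩, hnot⟩, hψ0⟩
      exact hnot (Set.mem_iUnion₂.2 ⟨ψ, (hT ψ).2 hψ0, hUmem _ _⟩)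
    have hcl := ((hK.image (continuous_pi fun i => continuous_apply _ : Continuous (coords (d := d) (A := A)))).isClosed.isOpen_compl).mem_nhds h0
    filter_upwards [hcl, Metric.closedBall_mem_nhds (0 : Fin d → ℂ) one_pos] with v hv hv1 ψ hψ
    have : (ψ : A → ℂ) ∈ ⋃ (ψ₀) (h : ψ₀ ∈ T), U ψ₀ h := by
      by_contra hcon
      exact hv ⟨ψ, ⟨⟨⟨ψ, rfl⟩, by rw [Set.mem_preimage, hψ]; exact hv1⟩, hcon⟩, hψ⟩
    obtain ⟨ψ₀, hψ₀, hmemU⟩ := Set.mem_iUnion₂.1 this
    have := hUP ψ₀ hψ₀ _ ⟨hmemU, ψ, rfl⟩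
    rwa [hψ] at this
  have hW : ∀ i : Fin r, W i ∈ Ideal.span (Set.range (MvPolynomial.X : Fin d → P)) ^ k := by
    intro i
    refine mem_pow_of_bound (W i) k ((r : ℝ) * (E ^ (i : ℕ) * ((‖MvPolynomial.eval (0 : Fin d → ℂ) D‖ + 1) * C₀))) D hD ?_
    filter_upwards [hgood, ((MvPolynomial.continuous_eval D).norm.tendsto (0 : Fin d → ℂ)).eventually
      (gt_mem_nhds (lt_add_one _))] with v hv hDb hDv
    obtain ⟨t, -, ht⟩ := hroots v hDv
    have hWv : MvPolynomial.eval v (W i) = ∑ l, t l ^ (i : ℕ) * (q.map (MvPolynomial.eval v)).eval (t l) := by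
      simp only [hqsum ℂ, W, map_sum, map_mul, hs _ _ t ht, Finset.mul_sum]
      rw [Finset.sum_comm]
      refine Finset.sum_congr rfl fun l _ => Finset.sum_congr rfl fun j _ => ?_
      ring
    rw [hWv]
    refine (norm_sum_le _ _).trans ((Finset.sum_le_card_nsmul _ _
      (E ^ (i : ℕ) * ((‖MvPolynomial.eval (0 : Fin d → ℂ) D‖ + 1) * (C₀ * ‖v‖ ^ k))) fun l _ => ?_).trans (le_of_eq ?_))
    · obtain ⟨ψ, hψv, hψt⟩ := exists_lift hinj a₀ v (t l) (by
        rw [← hf, ht, Polynomial.eval_prod]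
        exact Finset.prod_eq_zero (Finset.mem_univ l) (by simp))
      obtain ⟨hb1, hb2⟩ := hv ψ hψv
      have hval : (q.map (MvPolynomial.eval v)).eval (t l) = MvPolynomial.eval v D * ψ (a * e) := by
        have h1 := congrArg ψ hqz
        rw [map_mul, apply_algebraMap, hψv] at h1
        rw [h1, Polynomial.eval_map, ← hψt, aeval_def]
        have h2 : (ψ : A →+* ℂ).comp (algebraMap P A) = MvPolynomial.eval v := RingHom.ext fun p => by
          rw [← hψv]; exact apply_algebraMap ψ p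
        rw [← h2]
        exact (hom_eval₂ q _ (ψ : A →+* ℂ) a₀).symm
      rw [norm_mul, norm_pow, hval, norm_mul, ← hψt]
      exact mul_le_mul (pow_le_pow_left₀ (norm_nonneg _) hb2 _) (mul_le_mul hDb.le hb1 (norm_nonneg _) (by positivity))
        (by positivity) (pow_nonneg ((norm_nonneg _).trans hb2) _)
    · rw [Finset.card_univ, Fintype.card_fin, nsmul_eq_mul]; ring
  have hzdet : ∀ j : Fin r, S.det * q.coeff j ∈ Ideal.span (Set.range (MvPolynomial.X : Fin d → P)) ^ k := by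
    intro j
    have h1 : W = S.mulVec (fun j : Fin r => q.coeff j) := funext fun i => by
      simp only [W, Matrix.mulVec, dotProduct, S, Matrix.of_apply]
      exact Finset.sum_congr rfl fun j _ => mul_comm _ _
    have h2 : S.adjugate.mulVec W j = S.det * q.coeff j := by
      rw [h1, Matrix.mulVec_mulVec, Matrix.adjugate_mul, Matrix.smul_mulVec, Matrix.one_mulVec]
      rfl
    rw [← h2]
    show ∑ i, S.adjugate j i * W i ∈ _
    exact Ideal.sum_mem _ fun i _ => Ideal.mul_mem_left _ _ (hW i)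
  have hyk : ∀ p ∈ Ideal.span (Set.range (MvPolynomial.X : Fin d → P)) ^ k, algebraMap P A p ∈ RingHom.ker φ ^ k := by
    intro p hp
    have h1 := Ideal.mem_map_of_mem (algebraMap P A) hp
    rw [Ideal.map_pow, Ideal.map_span] at h1
    refine Ideal.pow_right_mono (Ideal.span_le.2 ?_) k h1
    rintro _ ⟨_, ⟨i, rfl⟩, rfl⟩
    exact congrFun hφ i
  have hδe : algebraMap P A (S.det * D) * (a * e) ∈ RingHom.ker φ ^ k := by
    rw [map_mul, mul_assoc, hqz, show aeval a₀ q = ∑ j : Fin r, algebraMap P A (q.coeff j) * a₀ ^ (j : ℕ) from by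
      rw [aeval_def, ← Polynomial.eval_map]
      refine (Polynomial.eval_map _ _).trans ?_
      rw [Polynomial.eval₂_eq_sum_range' _ (n := r) ?_ a₀, ← Fin.sum_univ_eq_sum_range]
      refine Polynomial.natDegree_modByMonic_lt _ hfm ?_
      intro h1
      have := minpoly.aeval P a₀
      rw [← hf, h1, map_one] at this
      exact one_ne_zero this, Finset.mul_sum]
    refine Ideal.sum_mem _ fun j _ => ?_
    rw [← mul_assoc, ← map_mul]
    exact Ideal.mul_mem_right _ _ (hyk _ (hzdet j))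
  have he1 : (1 - e) ∈ RingHom.ker φ ^ k := by
    rw [he, sub_sub_cancel]
    refine Ideal.pow_le_pow_right hLk (Ideal.pow_mem_pow ?_ L)
    simp [RingHom.mem_ker, hh1]
  have : algebraMap P A (S.det * D) * a = algebraMap P A (S.det * D) * (a * e) + algebraMap P A (S.det * D) * a * (1 - e) := by ring
  rw [this]
  exact Ideal.add_mem _ hδe (Ideal.mul_mem_left _ _ he1)

end Domain

/-- Functions vanishing to high order along the points of a domain lie in high powers of the maximal ideal. -/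
theorem exists_order_domain {A : Type*} [CommRing A] [IsDomain A] [Algebra ℂ A] [Algebra.FiniteType ℂ A]
    (φ : A →ₐ[ℂ] ℂ) (n : ℕ) : ∃ M, ∀ a, Bd φ M a → a ∈ RingHom.ker φ ^ n := by
  obtain ⟨e, ι, hinj, hfin⟩ := exists_finite_inj_algHom_of_fg ℂ A
  -- move the point to the origin
  let c : Fin e → ℂ := fun i => φ (ι (MvPolynomial.X i))
  let τ : MvPolynomial (Fin e) ℂ →ₐ[ℂ] MvPolynomial (Fin e) ℂ := MvPolynomial.aeval fun i => MvPolynomial.X i - MvPolynomial.C (c i)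
  let τ' : MvPolynomial (Fin e) ℂ →ₐ[ℂ] MvPolynomial (Fin e) ℂ := MvPolynomial.aeval fun i => MvPolynomial.X i + MvPolynomial.C (c i)
  have hττ : τ.comp τ' = AlgHom.id ℂ _ := MvPolynomial.algHom_ext fun i => by simp [τ, τ']
  have hττ' : τ'.comp τ = AlgHom.id ℂ _ := MvPolynomial.algHom_ext fun i => by simp [τ, τ']
  let σ : MvPolynomial (Fin e) ℂ ≃ₐ[ℂ] MvPolynomial (Fin e) ℂ := AlgEquiv.ofAlgHom τ τ' hττ hττ'
  let ι' : MvPolynomial (Fin e) ℂ →ₐ[ℂ] A := ι.comp σ.toAlgHom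
  letI : Algebra (MvPolynomial (Fin e) ℂ) A := ι'.toRingHom.toAlgebra
  haveI : IsScalarTower ℂ (MvPolynomial (Fin e) ℂ) A := IsScalarTower.of_algebraMap_eq fun c => (ι'.commutes c).symm
  haveI : Module.Finite (MvPolynomial (Fin e) ℂ) A :=
    (RingHom.Finite.comp hfin (RingHom.Finite.of_surjective σ.toAlgHom.toRingHom σ.surjective) : ι'.toRingHom.Finite)
  obtain ⟨δ, hδ, hk⟩ := exists_delta (d := e) (A := A) (hinj.comp σ.injective) φ (funext fun i => by
    show φ (ι (τ (MvPolynomial.X i))) = 0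
    simp only [τ, MvPolynomial.aeval_X, map_sub, ← MvPolynomial.algebraMap_eq, AlgHom.commutes, c]
    simp)
  haveI : IsNoetherianRing A := Algebra.FiniteType.isNoetherianRing ℂ A
  obtain ⟨j, hj⟩ := (RingHom.ker φ).exists_pow_inf_eq_pow_smul (Ideal.span {δ} : Submodule A A)
  obtain ⟨M, hM⟩ := hk (n + j + 1) (Nat.succ_pos _)
  refine ⟨M, fun a ha => ?_⟩
  have h1 : δ * a ∈ RingHom.ker φ ^ (n + j + 1) • (⊤ : Submodule A A) ⊓ Ideal.span {δ} :=
    ⟨by rw [Ideal.smul_eq_mul, Ideal.mul_top]; exact hM a ha, Ideal.mem_span_singleton.2 (dvd_mul_right δ a)⟩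
  rw [hj (n + j + 1) (by omega)] at h1
  replace h1 : δ * a ∈ RingHom.ker φ ^ (n + j + 1 - j) * Ideal.span {δ} := by
    rw [← Ideal.smul_eq_mul]
    exact Submodule.smul_mono le_rfl inf_le_right h1
  obtain ⟨x, hx, hxeq⟩ := Ideal.mem_mul_span_singleton.1 h1
  rw [mul_comm x δ] at hxeq
  rw [← mul_left_cancel₀ hδ hxeq]
  exact Ideal.pow_le_pow_right (by omega) hx

/-- Functions vanishing to high order along the points of a reduced affine variety lie in high powers of the maximal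
ideal. -/
theorem exists_order {A : Type*} [CommRing A] [IsReduced A] [Algebra ℂ A] [Algebra.FiniteType ℂ A]
    (φ : A →ₐ[ℂ] ℂ) (n : ℕ) : ∃ M, ∀ a, Bd φ M a → a ∈ RingHom.ker φ ^ n := by
  classical
  haveI : IsNoetherianRing A := Algebra.FiniteType.isNoetherianRing ℂ A
  haveI := (minimalPrimes.finite_of_isNoetherianRing A).fintype
  let π : A →ₗ[A] (∀ p : minimalPrimes A, A ⧸ p.1) := LinearMap.pi fun p => (Ideal.Quotient.mkₐ A p.1).toLinearMap
  have hπ : Function.Injective π := by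
    refine (injective_iff_map_eq_zero π).2 fun a ha => ?_
    have : a ∈ (⊥ : Ideal A).radical := by
      rw [← Ideal.sInf_minimalPrimes, Ideal.mem_sInf]
      intro p hp
      exact Ideal.Quotient.eq_zero_iff_mem.1 (congrFun ha ⟨p, hp⟩)
    rw [show (⊥ : Ideal A).radical = nilradical A from rfl, mem_nilradical] at this
    exact this.eq_zero
  obtain ⟨j, hj⟩ := (RingHom.ker φ).exists_pow_inf_eq_pow_smul (LinearMap.range π)
  have hM : ∀ p : minimalPrimes A, ∃ M, ∀ a, Bd φ M a → a ∈ p.1 ⊔ RingHom.ker φ ^ (n + j) := by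
    intro p
    haveI : p.1.IsPrime := p.2.1.1
    by_cases hp : p.1 ≤ RingHom.ker φ
    · let φp : (A ⧸ p.1) →ₐ[ℂ] ℂ := Ideal.Quotient.liftₐ p.1 φ hp
      haveI : Algebra.FiniteType ℂ (A ⧸ p.1) :=
        Algebra.FiniteType.of_surjective (Ideal.Quotient.mkₐ ℂ p.1) Ideal.Quotient.mk_surjective
      obtain ⟨M, hM⟩ := exists_order_domain φp (n + j)
      refine ⟨M, fun a ha => ?_⟩
      have h1 : Ideal.Quotient.mk p.1 a ∈ RingHom.ker φp ^ (n + j) :=
        hM _ (Bd.map (Ideal.Quotient.mkₐ ℂ p.1) φp (by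
          rwa [show φp.comp (Ideal.Quotient.mkₐ ℂ p.1) = φ from AlgHom.ext fun a => rfl]))
      have h2 : RingHom.ker φp ≤ (RingHom.ker φ).map (Ideal.Quotient.mk p.1) := fun x hx => by
        obtain ⟨z, rfl⟩ := Ideal.Quotient.mk_surjective x
        exact Ideal.mem_map_of_mem _ hx
      have h3 := Ideal.pow_right_mono h2 _ h1
      rw [← Ideal.map_pow] at h3
      obtain ⟨z, hz, hza⟩ := (Ideal.mem_map_iff_of_surjective _ Ideal.Quotient.mk_surjective).1 h3
      rw [show a = (a - z) + z by ring]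
      exact Submodule.add_mem_sup (Ideal.Quotient.eq.1 hza.symm) hz
    · refine ⟨0, fun a _ => ?_⟩
      haveI : (RingHom.ker φ).IsMaximal := RingHom.ker_isMaximal_of_surjective φ fun c => ⟨algebraMap ℂ A c, φ.commutes c⟩
      rcases Nat.eq_zero_or_pos (n + j) with h | h
      · simp [h]
      · have : p.1 ⊔ RingHom.ker φ = ⊤ := by
          rw [sup_comm]
          exact (Ideal.IsMaximal.out (I := RingHom.ker φ)).2 _ (left_lt_sup.2 hp)
        rw [Ideal.sup_pow_eq_top this]; trivial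
  choose M hM using hM
  let Mx := Finset.univ.sup M
  refine ⟨Mx, fun a ha => ?_⟩
  have hmono : ∀ M₁ M₂, M₁ ≤ M₂ → Bd φ M₂ a → Bd φ M₁ a := by
    rintro M₁ M₂ hle ⟨s, hs, C, hC⟩
    refine ⟨s, hs, |C|, ?_⟩
    have hlim : Tendsto (fun f : A → ℂ => ∑ x ∈ s, ‖f x‖) (𝓝[homSet A] (φ : A → ℂ)) (𝓝 0) := by
      refine Tendsto.mono_left ?_ nhdsWithin_le_nhds
      have := (continuous_finsetSum s fun x _ => (continuous_apply (A := fun _ : A => ℂ) x).norm).tendsto (φ : A → ℂ)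
      rwa [Finset.sum_eq_zero fun x hx => by rw [hs x hx, norm_zero]] at this
    filter_upwards [hC, hlim.eventually (gt_mem_nhds zero_lt_one)] with f hf hf1
    exact hf.trans (mul_le_mul (le_abs_self C) (pow_le_pow_of_le_one (Finset.sum_nonneg fun x _ => norm_nonneg _) hf1.le hle)
      (pow_nonneg (Finset.sum_nonneg fun x _ => norm_nonneg _) _) (abs_nonneg C))
  have hmem : π a ∈ RingHom.ker φ ^ (n + j) • (⊤ : Submodule A (∀ p : minimalPrimes A, A ⧸ p.1)) := by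
    rw [← Finset.univ_sum_single (π a)]
    refine Submodule.sum_mem _ fun p _ => ?_
    obtain ⟨y, hy, z, hz, hyz⟩ := Submodule.mem_sup.1 (hM p a (hmono _ _ (Finset.le_sup (Finset.mem_univ p)) ha))
    rw [show π a p = z • (1 : A ⧸ p.1) by
      show Ideal.Quotient.mk p.1 a = _
      rw [Algebra.smul_def, mul_one, ← hyz, map_add, Ideal.Quotient.eq_zero_iff_mem.2 hy, zero_add]; rfl]
    rw [← LinearMap.single_apply (R := A), map_smul]
    exact Submodule.smul_mem_smul hz trivial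
  have h4 : π a ∈ RingHom.ker φ ^ (n + j) • (⊤ : Submodule A (∀ p : minimalPrimes A, A ⧸ p.1)) ⊓ LinearMap.range π :=
    ⟨hmem, a, rfl⟩
  rw [hj (n + j) (by omega)] at h4
  have h5 : π a ∈ RingHom.ker φ ^ (n + j - j) • LinearMap.range π := Submodule.smul_mono le_rfl inf_le_right h4
  rw [LinearMap.range_eq_map, ← Submodule.map_smul'', Ideal.smul_eq_mul, Ideal.mul_top] at h5
  obtain ⟨b, hb, hba⟩ := Submodule.mem_map.1 h5
  rw [← hπ hba]
  simpa using hb

end

end Groth.Agent.AnStalkLib
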