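import Groth.Agent.AnStalkLib.Stalk
import Groth.Agent.AnPts.Closure
import Groth.Agent.AnHolLib.Affine
import Groth.Agent.AnStalkLib.Germs
import Groth.Agent.AnStalkLib.Trace

/-! Coordinates near a complex point, and the two ring homomorphisms onto the analytic stalk. -/

set_option autoImplicit false
set_option backward.isDefEq.respectTransparency false
set_option backward.isDefEq.respectTransparency.types false
set_option maxHeartbeats 800000

open AlgebraicGeometry CategoryTheory TopologicalSpace Opposite Topology Filter Metric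

namespace Groth.Agent.AnStalkLib

open An An.Pts Groth.Agent.AnPts

noncomputable section

variable {X : Scheme.{0}} [X.Over SC]

theorem evExt_mem_top {U : X.Opens} (w : Pts X) (h : w.pt ∈ U) (f : Γ(X, U)) : evExt U f w = evHom w U h f :=
  evExt_of_mem f h

/-- A chart at a complex point: an affine open and generators of its ring of functions. -/
structure Chart (x : Pts X) where
  U : X.Opens
  hU : IsAffineOpen U
  mem : x.pt ∈ U
  n : ℕ
  s : Fin n → Γ(X, U)
  str : ℂ →+* Γ(X, U)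
  ev_str : ∀ (y : Pts X) (h : y.pt ∈ U) (c : ℂ), y.ev U h (str c) = c
  gen : Function.Surjective (MvPolynomial.eval₂Hom str s)

/-- The scalars on an open set. -/
def strOn (U : X.Opens) : ℂ →+* Γ(X, U) := (X.presheaf.map (homOfLE le_top).op).hom.comp (strHom X)

theorem ev_strOn (U : X.Opens) (y : Pts X) (h : y.pt ∈ U) (c : ℂ) : y.ev U h (strOn U c) = c :=
  (ev_eq_evTop y h _).trans (evTop_strHom y c)

theorem finiteType_strOn [LocallyOfFiniteType (X ↘ SC)] {U : X.Opens} (hU : IsAffineOpen U) : (strOn U).FiniteType := by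
  have h1 : ((X ↘ SC).appLE ⊤ U le_top).hom.FiniteType :=
    HasRingHomProperty.appLE (P := @LocallyOfFiniteType) (X ↘ SC) inferInstance ⟨⊤, isAffineOpen_top SC⟩ ⟨U, hU⟩ le_top
  exact h1.comp (RingHom.FiniteType.of_surjective _
    (ConcreteCategory.bijective_of_isIso (Scheme.ΓSpecIso (CommRingCat.of ℂ)).inv).2)

theorem exists_chart [LocallyOfFiniteType (X ↘ SC)] (x : Pts X) : Nonempty (Chart x) := by
  obtain ⟨U, hxU, -, hU⟩ := exists_affine_chart (U := ⊤) x trivial
  letI : Algebra ℂ Γ(X, U) := (strOn U).toAlgebra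
  haveI : Algebra.FiniteType ℂ Γ(X, U) := finiteType_strOn hU
  obtain ⟨n, F, hF⟩ := Algebra.FiniteType.iff_quotient_mvPolynomial''.1 (inferInstance : Algebra.FiniteType ℂ Γ(X, U))
  refine ⟨⟨U, hU, hxU, n, fun i => F (MvPolynomial.X i), strOn U, fun y h c => ev_strOn U y h c, fun b => ?_⟩⟩
  obtain ⟨p, rfl⟩ := hF b
  refine ⟨p, ?_⟩
  exact (AlgHom.congr_fun (MvPolynomial.aeval_unique F) p).symm

namespace Chart

variable {x : Pts X} (C : Chart x)

/-- The value of a polynomial in the generators. -/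
theorem ev_poly (y : Pts X) (h : y.pt ∈ C.U) (p : MvPolynomial (Fin C.n) ℂ) :
    y.ev C.U h (MvPolynomial.eval₂Hom C.str C.s p) = MvPolynomial.eval (fun i => y.ev C.U h (C.s i)) p := by
  have h1 : (evHom y C.U h).comp (MvPolynomial.eval₂Hom C.str C.s) = MvPolynomial.eval (fun i => y.ev C.U h (C.s i)) := by
    refine MvPolynomial.ringHom_ext (fun c => ?_) fun i => ?_
    · simp only [RingHom.comp_apply, MvPolynomial.eval₂Hom_C, MvPolynomial.eval_C, evHom_apply, C.ev_str]
    · simp only [RingHom.comp_apply, MvPolynomial.eval₂Hom_X', MvPolynomial.eval_X, evHom_apply]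
  exact RingHom.congr_fun h1 p

/-- The coordinates, shifted so that the point has coordinates zero. -/
def κ (y : Pts X) : Fin C.n → ℂ := fun i => evExt C.U (C.s i) y - x.ev C.U C.mem (C.s i)

theorem κ_self : C.κ x = 0 := funext fun i => by simp [κ, evExt_of_mem _ C.mem]

theorem continuousOn_evExt (U : X.Opens) (f : Γ(X, U)) : ContinuousOn (evExt U f) (pt ⁻¹' (U : Set X)) := by
  rw [continuousOn_open_iff (isOpen_preimage_pt U)]
  intro V hV
  convert isOpen_basicSet U f hV
  ext y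
  constructor
  · rintro ⟨hy, hyV⟩
    exact ⟨hy, by rwa [Set.mem_preimage, evExt_of_mem f hy] at hyV⟩
  · rintro ⟨hy, hyV⟩
    exact ⟨hy, by rwa [Set.mem_preimage, evExt_of_mem f hy]⟩

theorem nhds_mem : pt ⁻¹' (C.U : Set X) ∈ 𝓝 x := (isOpen_preimage_pt C.U).mem_nhds C.mem

theorem tendsto_κ : Tendsto C.κ (𝓝 x) (𝓝 0) := by
  rw [tendsto_pi_nhds]
  intro i
  have h1 := ((continuousOn_evExt C.U (C.s i)).continuousAt C.nhds_mem).tendsto
  rw [evExt_of_mem _ C.mem] at h1
  simpa [κ] using h1.sub_const (x.ev C.U C.mem (C.s i))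

/-- Composition with the coordinates. -/
def compKappa : hol0 C.n →+* Germ (𝓝 x) ℂ where
  toFun φ := (φ : Germ (𝓝 (0 : Fin C.n → ℂ)) ℂ).compTendsto C.κ C.tendsto_κ
  map_one' := rfl
  map_mul' φ ψ := by
    obtain ⟨G, _, -, -, hG⟩ := exists_gm φ; obtain ⟨H, _, -, -, hH⟩ := exists_gm ψ
    simp only [Subring.coe_mul, hG, hH]; rfl
  map_zero' := rfl
  map_add' φ ψ := by
    obtain ⟨G, _, -, -, hG⟩ := exists_gm φ; obtain ⟨H, _, -, -, hH⟩ := exists_gm ψ
    simp only [Subring.coe_add, hG, hH]; rfl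

theorem compKappa_eq {φ : hol0 C.n} {G : (Fin C.n → ℂ) → ℂ} (h : (φ : Germ (𝓝 (0 : Fin C.n → ℂ)) ℂ) = ↑G) :
    C.compKappa φ = (↑(fun y => G (C.κ y)) : Germ (𝓝 x) ℂ) :=
  compTendsto_of_eq h C.κ C.tendsto_κ

theorem compKappa_mem_range (φ : hol0 C.n) : C.compKappa φ ∈ (germFun x).range := by
  obtain ⟨G, R, hR, hG, hφ⟩ := exists_gm φ
  let V : Opens (An.top X) := ⟨pt ⁻¹' (C.U : Set X) ∩ C.κ ⁻¹' ball 0 R,
    (continuousOn_pi.2 fun i => (continuousOn_evExt C.U (C.s i)).sub continuousOn_const).isOpen_inter_preimage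
      (isOpen_preimage_pt C.U) isOpen_ball⟩
  have hV : x ∈ V := ⟨C.mem, by rw [Set.mem_preimage, C.κ_self]; exact mem_ball_self hR⟩
  let f : V → ℂ := fun y => G (C.κ y.1)
  have hf : An.IsChartFun V f := by
    refine ⟨C.U, fun y => y.2.1, C.n, C.s, (fun z i => z i - x.ev C.U C.mem (C.s i)) ⁻¹' ball 0 R,
      fun z => G fun i => z i - x.ev C.U C.mem (C.s i), isOpen_ball.preimage (by fun_prop),
      hG.comp (by fun_prop) (fun z hz => hz), fun y => ?_⟩
    have hk : (fun i => y.1.ev C.U y.2.1 (C.s i) - x.ev C.U C.mem (C.s i)) = C.κ y.1 :=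
      funext fun i => by rw [κ, evExt_of_mem]
    refine ⟨?_, ?_⟩
    · show (fun i => y.1.ev C.U y.2.1 (C.s i) - x.ev C.U C.mem (C.s i)) ∈ ball 0 R
      rw [hk]; exact y.2.2
    · show G (C.κ y.1) = G fun i => y.1.ev C.U y.2.1 (C.s i) - x.ev C.U C.mem (C.s i)
      rw [hk]
  refine ⟨((An.anSpace X).presheaf.germ V x hV).hom ⟨f, holPred_of_chartAlg (Algebra.subset_adjoin hf)⟩, ?_⟩
  rw [germFun_germ, C.compKappa_eq hφ]
  exact Germ.coe_eq.2 (eventually_of_mem (V.2.mem_nhds hV) fun y hy => ext0_of_mem _ hy)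

theorem exists_coords_of_section (W : X.Opens) (hW : x.pt ∈ W) (t : Γ(X, W)) :
    ∃ H : (Fin C.n → ℂ) → ℂ, (∃ R > 0, DifferentiableOn ℂ H (ball 0 R)) ∧ ∀ᶠ y in 𝓝 x, evExt W t y = H (C.κ y) := by
  obtain ⟨g, hgW, hxg⟩ := C.hU.exists_basicOpen_le ⟨x.pt, hW⟩ C.mem
  haveI := C.hU.isLocalization_basicOpen g
  obtain ⟨⟨a, m⟩, ham⟩ := IsLocalization.surj (Submonoid.powers g) (X.presheaf.map (homOfLE hgW).op t)
  obtain ⟨N, hN⟩ : ∃ N : ℕ, g ^ N = (m : Γ(X, C.U)) := m.2
  obtain ⟨p, hp⟩ := C.gen a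
  obtain ⟨q, hq⟩ := C.gen g
  let c : Fin C.n → ℂ := fun i => x.ev C.U C.mem (C.s i)
  have hval : ∀ (y : Pts X) (hy : y.pt ∈ X.basicOpen g),
      y.ev W (hgW hy) t * (MvPolynomial.eval (fun i => C.κ y i + c i) q) ^ N = MvPolynomial.eval (fun i => C.κ y i + c i) p := by
    intro y hy
    have hyU : y.pt ∈ C.U := X.basicOpen_le g hy
    have hk : (fun i => C.κ y i + c i) = fun i => y.ev C.U hyU (C.s i) :=
      funext fun i => by simp [κ, c, evExt_of_mem _ hyU]
    rw [hk, ← C.ev_poly y hyU, ← C.ev_poly y hyU, hp, hq]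
    have h1 := congrArg (evHom y (X.basicOpen g) hy) ham
    rw [map_mul, evHom_apply, AnPts.ev_res, RingHom.algebraMap_toAlgebra, evHom_apply, evHom_apply, AnPts.ev_res,
      AnPts.ev_res] at h1
    rw [← h1, ← hN]
    congr 1
    exact ((map_pow (evHom y C.U hyU) g N)).symm
  have hg0 : MvPolynomial.eval c q ≠ 0 := by
    intro h0
    have hk : c = fun i => x.ev C.U C.mem (C.s i) := rfl
    rw [hk, ← C.ev_poly x C.mem, hq] at h0
    have hu : IsUnit ((X.presheaf.map (homOfLE (X.basicOpen_le g)).op).hom g) :=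
      RingedSpace.isUnit_res_basicOpen _ g
    have h2 := hu.map (evHom x (X.basicOpen g) hxg)
    rw [evHom_apply, AnPts.ev_res, h0] at h2
    exact not_isUnit_zero h2
  let Q : (Fin C.n → ℂ) → ℂ := fun z => MvPolynomial.eval (fun i => z i + c i) q ^ N
  have hQd : Differentiable ℂ Q := ((AnHolLib.differentiable_eval q).comp (by fun_prop)).fun_pow N
  have hQ0 : Q 0 ≠ 0 := by simpa [Q] using pow_ne_zero N hg0
  obtain ⟨R, hR, hQne⟩ := Metric.eventually_nhds_iff_ball.1 (hQd.continuous.continuousAt.eventually_ne hQ0)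
  refine ⟨fun z => MvPolynomial.eval (fun i => z i + c i) p / Q z, ⟨R, hR, ?_⟩, ?_⟩
  · simp only [div_eq_mul_inv]
    exact ((AnHolLib.differentiable_eval p).comp (by fun_prop)).differentiableOn.fun_mul
      (hQd.differentiableOn.fun_inv fun z hz => hQne z hz)
  · filter_upwards [(isOpen_preimage_pt (X.basicOpen g)).mem_nhds hxg, C.tendsto_κ.eventually (ball_mem_nhds 0 hR)]
      with y hy hyR
    rw [evExt_of_mem t (hgW hy), eq_div_iff (hQne _ hyR)]
    exact hval y hy

theorem germFun_mem_range (σ : (An.anSpace X).presheaf.stalk x) : germFun x σ ∈ C.compKappa.range := by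
  obtain ⟨V₀, hxV₀, f₀, rfl⟩ := TopCat.Presheaf.exists_germ_eq (F := (An.anSpace X).presheaf) σ
  obtain ⟨V, hxV, i, hf⟩ := f₀.2 ⟨x, hxV₀⟩
  suffices ∀ f : V → ℂ, f ∈ chartAlg V → (↑(ext0 f) : Germ (𝓝 x) ℂ) ∈ C.compKappa.range by
    have h1 := this _ hf
    rw [germFun_germ]
    convert h1 using 1
    exact Germ.coe_eq.2 (eventually_of_mem (V.2.mem_nhds hxV) fun y hy => by
      rw [ext0_of_mem _ hy, ext0_of_mem _ (leOfHom i hy)]; rfl)
  intro f hf
  induction hf using Algebra.adjoin_induction with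
  | mem g hg =>
    obtain ⟨W, hW, m, t, D, G, hD, hG, hval⟩ := hg
    choose H hH hHev using fun j => C.exists_coords_of_section W (hW ⟨x, hxV⟩) (t j)
    choose R hR hHd using hH
    have hev0 : (fun j => H j 0) = fun j => x.ev W (hW ⟨x, hxV⟩) (t j) := funext fun j => by
      have := (hHev j).self_of_nhds
      rw [C.κ_self, evExt_of_mem _ (hW ⟨x, hxV⟩)] at this
      exact this.symm
    have hdat : ∀ j, DifferentiableAt ℂ (H j) 0 := fun j => (hHd j).differentiableAt (ball_mem_nhds 0 (hR j))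
    have hc : ContinuousAt (fun z j => H j z) 0 := continuousAt_pi.2 fun j => (hdat j).continuousAt
    obtain ⟨r, hr, hrD⟩ := Metric.mem_nhds_iff.1 (inter_mem
      (hc (hD.mem_nhds (by show (fun j => H j 0) ∈ D; rw [hev0]; exact (hval ⟨x, hxV⟩).1)))
      ((eventually_all.2 fun j => eventually_of_mem (ball_mem_nhds (0 : Fin C.n → ℂ) (hR j)) fun z hz =>
        (hHd j).differentiableAt (isOpen_ball.mem_nhds hz)) : ∀ᶠ z in 𝓝 (0 : Fin C.n → ℂ), ∀ j, DifferentiableAt ℂ (H j) z))
    have hd : DifferentiableOn ℂ (fun z => G fun j => H j z) (ball 0 r) := fun z hz =>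
      ((hG.differentiableAt (hD.mem_nhds (hrD hz).1)).comp z (differentiableAt_pi.2 (hrD hz).2)).differentiableWithinAt
    refine ⟨gm _ ⟨r, hr, hd⟩, ?_⟩
    rw [C.compKappa_eq (G := fun z => G fun j => H j z) rfl]
    refine Germ.coe_eq.2 ?_
    filter_upwards [V.2.mem_nhds hxV, eventually_all.2 hHev] with y hy hys
    rw [ext0_of_mem _ hy, (hval ⟨y, hy⟩).2]
    exact congrArg G (funext fun j => by rw [← hys j, evExt_of_mem])
  | algebraMap c =>
    refine ⟨gm (fun _ => c) ⟨1, one_pos, differentiableOn_const _⟩, ?_⟩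
    rw [C.compKappa_eq (G := fun _ => c) rfl]
    exact Germ.coe_eq.2 (eventually_of_mem (V.2.mem_nhds hxV) fun y hy => ((ext0_of_mem (V := V) (algebraMap ℂ (V → ℂ) c) hy).trans rfl).symm)
  | add a b _ _ ha hb =>
    convert add_mem ha hb using 1
    exact Germ.coe_eq.2 (eventually_of_mem (V.2.mem_nhds hxV) fun y hy => by
      simp only [Pi.add_apply, ext0_of_mem _ hy])
  | mul a b _ _ ha hb =>
    convert mul_mem ha hb using 1
    exact Germ.coe_eq.2 (eventually_of_mem (V.2.mem_nhds hxV) fun y hy => by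
      simp only [Pi.mul_apply, ext0_of_mem _ hy])

theorem exists_lift_germ (φ : hol0 C.n) : ∃ σ, germFun x σ = C.compKappa φ := C.compKappa_mem_range φ

/-- Germs of holomorphic functions of the coordinates map onto the analytic stalk. -/
def pullStalk : hol0 C.n →+* (An.anSpace X).presheaf.stalk x where
  toFun φ := (C.exists_lift_germ φ).choose
  map_one' := germFun_injective x (by rw [(C.exists_lift_germ 1).choose_spec, map_one, map_one])
  map_mul' φ ψ := germFun_injective x ((C.exists_lift_germ (φ * ψ)).choose_spec.trans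
    ((map_mul C.compKappa φ ψ).trans ((congrArg₂ (· * ·) (C.exists_lift_germ φ).choose_spec
      (C.exists_lift_germ ψ).choose_spec).symm.trans (map_mul (germFun x) _ _).symm)))
  map_zero' := germFun_injective x (by rw [(C.exists_lift_germ 0).choose_spec, map_zero, map_zero])
  map_add' φ ψ := germFun_injective x ((C.exists_lift_germ (φ + ψ)).choose_spec.trans
    ((map_add C.compKappa φ ψ).trans ((congrArg₂ (· + ·) (C.exists_lift_germ φ).choose_spec
      (C.exists_lift_germ ψ).choose_spec).symm.trans (map_add (germFun x) _ _).symm)))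

theorem germFun_pullStalk (φ : hol0 C.n) : germFun x (C.pullStalk φ) = C.compKappa φ :=
  (C.exists_lift_germ φ).choose_spec

theorem pullStalk_surjective : Function.Surjective C.pullStalk := fun σ => by
  obtain ⟨φ, hφ⟩ := C.germFun_mem_range σ
  exact ⟨φ, germFun_injective x ((C.germFun_pullStalk φ).trans hφ)⟩

/-- The regular functions vanishing at the point which generate the maximal ideal. -/
def γ (i : Fin C.n) : X.presheaf.stalk x.pt :=
  (X.presheaf.germ C.U x.pt C.mem).hom (C.s i - C.str (x.ev C.U C.mem (C.s i)))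

theorem evExt_γ (i : Fin C.n) (y : Pts X) (hy : y.pt ∈ C.U) :
    evExt C.U (C.s i - C.str (x.ev C.U C.mem (C.s i))) y = C.κ y i := by
  rw [evExt_of_mem _ hy, κ, evExt_of_mem _ hy, ← evHom_apply, map_sub, evHom_apply, evHom_apply, C.ev_str]

theorem pullStalk_crd (i : Fin C.n) : C.pullStalk (crd i) = phi x (C.γ i) := by
  refine germFun_injective x ?_
  rw [C.germFun_pullStalk, γ, germFun_phi_germ, C.compKappa_eq (G := fun z => z i) rfl]
  exact Germ.coe_eq.2 (eventually_of_mem C.nhds_mem fun y hy => (C.evExt_γ i y hy).symm)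

theorem γ_mem (i : Fin C.n) : C.γ i ∈ IsLocalRing.maximalIdeal (X.presheaf.stalk x.pt) := by
  rw [maximalIdeal_eq_ker_evR, RingHom.mem_ker, RingHom.comp_apply, γ, evS_phi_germ]
  have := C.evExt_γ i x C.mem
  rw [evExt_of_mem _ C.mem, C.κ_self] at this
  exact this

end Chart

end

end Groth.Agent.AnStalkLib
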