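import Groth.Agent.AnStalkLib.Morph

/-! An unramified morphism induces surjections of analytic local rings. -/

set_option autoImplicit false
set_option backward.isDefEq.respectTransparency false
set_option backward.isDefEq.respectTransparency.types false
set_option maxHeartbeats 800000

open AlgebraicGeometry CategoryTheory TopologicalSpace Opposite Topology Filter Metric

namespace Groth.Agent.AnStalkLib

open An An.Pts Groth.Agent.AnPts

noncomputable section

theorem contDiff_eval {n : ℕ} {k : WithTop ℕ∞} (p : MvPolynomial (Fin n) ℂ) :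
    ContDiff ℂ k fun z : Fin n → ℂ => MvPolynomial.eval z p := by
  induction p using MvPolynomial.induction_on with
  | C a => simp only [MvPolynomial.eval_C]; exact contDiff_const
  | add p q hp hq => simp only [map_add]; exact hp.add hq
  | mul_X p i hp =>
    simp only [map_mul, MvPolynomial.eval_X]
    exact hp.mul (contDiff_apply ℂ ℂ i)

/-- Solving `Q z * z i = ∑ j, P i j z * w j` for `z` as a holomorphic function of `w`. -/
theorem exists_implicit {n m : ℕ} (Q : (Fin n → ℂ) → ℂ) (P : Fin n → Fin m → (Fin n → ℂ) → ℂ)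
    (hQ : ContDiff ℂ 1 Q) (hP : ∀ i j, ContDiff ℂ 1 (P i j)) (hQ0 : Q 0 ≠ 0) :
    ∃ (φ : (Fin m → ℂ) → (Fin n → ℂ)) (r : ℝ), 0 < r ∧ DifferentiableOn ℂ φ (ball 0 r) ∧ φ 0 = 0 ∧
      ∀ᶠ p : (Fin n → ℂ) × (Fin m → ℂ) in 𝓝 0,
        (∀ i, Q p.1 * p.1 i = ∑ j, P i j p.1 * p.2 j) → p.1 = φ p.2 := by
  let Ψ : ((Fin n → ℂ) × (Fin m → ℂ)) → ((Fin n → ℂ) × (Fin m → ℂ)) := fun p => (fun i => Q p.1 * p.1 i - ∑ j, P i j p.1 * p.2 j, p.2)
  have hΨ : ContDiff ℂ 1 Ψ := by
    refine ContDiff.prodMk (contDiff_pi.2 fun i => ContDiff.sub ?_ (ContDiff.sum fun j _ => ?_)) contDiff_snd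
    · exact (hQ.comp contDiff_fst).mul ((contDiff_apply ℂ ℂ i).comp contDiff_fst)
    · exact ((hP i j).comp contDiff_fst).mul ((contDiff_apply ℂ ℂ j).comp contDiff_snd)
  let L : ((Fin n → ℂ) × (Fin m → ℂ)) →L[ℂ] ((Fin n → ℂ) × (Fin m → ℂ)) := (ContinuousLinearMap.pi fun i => Q 0 • ((ContinuousLinearMap.proj i).comp (ContinuousLinearMap.fst ℂ _ _)) -
      ∑ j, P i j 0 • ((ContinuousLinearMap.proj (R := ℂ) (φ := fun _ : Fin m => ℂ) j).comp (ContinuousLinearMap.snd ℂ _ _))).prod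
      (ContinuousLinearMap.snd ℂ _ _)
  have hL : HasFDerivAt Ψ L 0 := by
    refine HasFDerivAt.prodMk (hasFDerivAt_pi.2 fun i => HasFDerivAt.sub ?_ (HasFDerivAt.fun_sum fun j _ => ?_)) hasFDerivAt_snd
    · have h1 : HasFDerivAt (fun p : ((Fin n → ℂ) × (Fin m → ℂ)) => p.1 i)
          ((ContinuousLinearMap.proj i).comp (ContinuousLinearMap.fst ℂ (Fin n → ℂ) (Fin m → ℂ))) 0 :=
        (hasFDerivAt_apply (𝕜 := ℂ) i (0 : ((Fin n → ℂ) × (Fin m → ℂ))).1).comp (0 : ((Fin n → ℂ) × (Fin m → ℂ))) hasFDerivAt_fst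
      have h2 : HasFDerivAt (fun p : ((Fin n → ℂ) × (Fin m → ℂ)) => Q p.1) _ 0 :=
        ((hQ.comp contDiff_fst).differentiable one_ne_zero 0).hasFDerivAt
      exact (h2.fun_mul h1).congr_fderiv (by simp; ext v <;> simp)
    · have h1 : HasFDerivAt (fun p : ((Fin n → ℂ) × (Fin m → ℂ)) => p.2 j)
          ((ContinuousLinearMap.proj j).comp (ContinuousLinearMap.snd ℂ (Fin n → ℂ) (Fin m → ℂ))) 0 :=
        (hasFDerivAt_apply (𝕜 := ℂ) j (0 : ((Fin n → ℂ) × (Fin m → ℂ))).2).comp (0 : ((Fin n → ℂ) × (Fin m → ℂ))) hasFDerivAt_snd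
      have h2 : HasFDerivAt (fun p : ((Fin n → ℂ) × (Fin m → ℂ)) => P i j p.1) _ 0 :=
        (((hP i j).comp contDiff_fst).differentiable one_ne_zero 0).hasFDerivAt
      exact (h2.fun_mul h1).congr_fderiv (by simp; ext v <;> simp)
  have hinj : Function.Injective L := by
    rw [injective_iff_map_eq_zero]
    rintro ⟨a, b⟩ hab
    have hb : b = 0 := congrArg Prod.snd hab
    subst hb
    refine Prod.ext (funext fun i => ?_) rfl
    have h := congrFun (congrArg Prod.fst hab) i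
    simp [L, hQ0] at h
    exact h
  let e : ((Fin n → ℂ) × (Fin m → ℂ)) ≃L[ℂ] ((Fin n → ℂ) × (Fin m → ℂ)) := (LinearEquiv.ofInjectiveEndo (L : ((Fin n → ℂ) × (Fin m → ℂ)) →ₗ[ℂ] ((Fin n → ℂ) × (Fin m → ℂ))) hinj).toContinuousLinearEquiv
  have he : HasFDerivAt Ψ (e : ((Fin n → ℂ) × (Fin m → ℂ)) →L[ℂ] ((Fin n → ℂ) × (Fin m → ℂ))) 0 := by
    have : (e : ((Fin n → ℂ) × (Fin m → ℂ)) →L[ℂ] ((Fin n → ℂ) × (Fin m → ℂ))) = L := ContinuousLinearMap.ext fun _ => rfl
    rwa [this]
  have hc : ContDiffAt ℂ 1 Ψ 0 := hΨ.contDiffAt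
  have hΨ0 : Ψ 0 = 0 := by simp [Ψ]; rfl
  let inv := hc.localInverse he one_ne_zero
  have hinv : ContDiffAt ℂ 1 inv 0 := by
    have := hc.to_localInverse he one_ne_zero
    rwa [hΨ0] at this
  have hinv0 : inv 0 = 0 := by
    have := hc.localInverse_apply_image he one_ne_zero
    rwa [hΨ0] at this
  have hzero : Tendsto (fun w : Fin m → ℂ => ((0 : Fin n → ℂ), w)) (𝓝 0) (𝓝 0) := by
    exact Continuous.tendsto' (by fun_prop) _ _ rfl
  obtain ⟨r, hr, hd⟩ := Metric.eventually_nhds_iff_ball.1 (hzero.eventually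
    ((hinv.eventually (by simp)).mono fun p hp => hp.differentiableAt one_ne_zero))
  refine ⟨fun w => (inv (0, w)).1, r, hr, fun w hw =>
    (((hd w hw).comp w (DifferentiableAt.prodMk (differentiableAt_const _) differentiableAt_id)).fst).differentiableWithinAt, ?_, ?_⟩
  · show (inv (0 : ((Fin n → ℂ) × (Fin m → ℂ)))).1 = 0
    rw [hinv0]; rfl
  · filter_upwards [(hc.hasStrictFDerivAt' he one_ne_zero).eventually_left_inverse] with p hp heq
    have hΨp : Ψ p = (0, p.2) := Prod.ext (funext fun i => sub_eq_zero.2 (heq i)) rfl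
    have h1 : inv (Ψ p) = p := hp
    rw [hΨp] at h1
    exact (congrArg Prod.fst h1).symm

variable {X Y : Scheme.{0}} [X.Over SC] [Y.Over SC] (f : X ⟶ Y) [f.IsOver SC] (x : Pts X)
  [LocallyOfFiniteType (X ↘ SC)] [LocallyOfFiniteType (Y ↘ SC)]

omit [LocallyOfFiniteType (X ↘ SC)] in
theorem Chart.germFun_γ (C : Chart x) (i : Fin C.n) : germFun x (phi x (C.γ i)) = ↑(fun y => C.κ y i) := by
  rw [← C.pullStalk_crd, C.germFun_pullStalk]
  exact C.compKappa_eq (G := fun z => z i) rfl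

theorem Chart.maximalIdeal_eq_span_γ {y : Pts Y} [IsReduced Y] (D : Chart y) :
    IsLocalRing.maximalIdeal (Y.presheaf.stalk y.pt) = Ideal.span (Set.range D.γ) := by
  haveI := isLocalRing_stalk y
  have h1 : (Ideal.span (Set.range D.γ)).map (phi y) = IsLocalRing.maximalIdeal ((An.anSpace Y).presheaf.stalk y) := by
    rw [Ideal.map_span, ← IsLocalRing.map_maximalIdeal_of_surjective D.pullStalk D.pullStalk_surjective,
      maximalIdeal_eq_span, Ideal.map_span]
    congr 1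
    rw [← Set.range_comp, ← Set.range_comp]
    exact congrArg Set.range (funext fun i => (D.pullStalk_crd i).symm)
  rw [← (sameCompl y).comap_map (Ideal.span _), h1, ← (sameCompl y).map_max, (sameCompl y).comap_map]

theorem surjective_gS [IsReduced Y]
    (h : (IsLocalRing.maximalIdeal (Y.presheaf.stalk (Pts.map f x).pt)).map (fR f x) =
      IsLocalRing.maximalIdeal (X.presheaf.stalk x.pt)) : Function.Surjective (gS f x) := by
  classical
  obtain ⟨C⟩ := exists_chart x
  obtain ⟨D⟩ := exists_chart (Pts.map f x)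
  have hγ : ∀ i, ∃ a : Fin D.n → X.presheaf.stalk x.pt, ∑ j, a j * fR f x (D.γ j) = C.γ i := fun i => by
    have := C.γ_mem i
    rw [← h, D.maximalIdeal_eq_span_γ, Ideal.map_span, ← Set.range_comp] at this
    exact Ideal.mem_span_range_iff_exists_fun.1 this
  choose a ha using hγ
  letI : Algebra Γ(X, C.U) (X.presheaf.stalk x.pt) := TopCat.Presheaf.algebra_section_stalk X.presheaf ⟨x.pt, C.mem⟩
  haveI : IsLocalization.AtPrime (X.presheaf.stalk x.pt) (C.hU.primeIdealOf ⟨x.pt, C.mem⟩).asIdeal :=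
    C.hU.isLocalization_stalk ⟨x.pt, C.mem⟩
  obtain ⟨u, hu⟩ := IsLocalization.exist_integer_multiples (C.hU.primeIdealOf ⟨x.pt, C.mem⟩).asIdeal.primeCompl
    (Finset.univ : Finset (Fin C.n × Fin D.n)) fun ij => a ij.1 ij.2
  choose b hb using fun i j => hu (i, j) (Finset.mem_univ _)
  choose p hp using fun i j => C.gen (b i j)
  obtain ⟨q, hq⟩ := C.gen (u : Γ(X, C.U))
  let c : Fin C.n → ℂ := fun i => x.ev C.U C.mem (C.s i)
  let Q : (Fin C.n → ℂ) → ℂ := fun z => MvPolynomial.eval (fun i => z i + c i) q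
  let P : Fin C.n → Fin D.n → (Fin C.n → ℂ) → ℂ := fun i j z => MvPolynomial.eval (fun i => z i + c i) (p i j)
  have hshift : ContDiff ℂ 1 fun z : Fin C.n → ℂ => fun i => z i + c i :=
    contDiff_pi.2 fun i => (contDiff_apply ℂ ℂ i).add contDiff_const
  have hval : ∀ (b : Γ(X, C.U)) (p : MvPolynomial (Fin C.n) ℂ), MvPolynomial.eval₂Hom C.str C.s p = b →
      ∀ᶠ y in 𝓝 x, evExt C.U b y = MvPolynomial.eval (fun i => C.κ y i + c i) p := by
    intro b p hbp
    filter_upwards [C.nhds_mem] with y hy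
    rw [evExt_of_mem _ hy, ← hbp, C.ev_poly y hy]
    congr
    funext i
    simp [Chart.κ, c, evExt_of_mem _ hy]
  have hQ0 : Q 0 ≠ 0 := by
    have h1 := (hval _ q hq).self_of_nhds
    rw [C.κ_self] at h1
    show MvPolynomial.eval (fun i => (0 : Fin C.n → ℂ) i + c i) q ≠ 0
    rw [← h1, evExt_of_mem _ C.mem]
    have hunit : IsUnit ((X.presheaf.germ C.U x.pt C.mem).hom (u : Γ(X, C.U))) :=
      IsLocalization.map_units (X.presheaf.stalk x.pt) u
    have h2 := (hunit.map (phi x)).map (evS x)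
    rw [evS_phi_germ] at h2
    exact h2.ne_zero
  obtain ⟨φ, r, hr, hφd, hφ0, hφ⟩ := exists_implicit Q P ((contDiff_eval q).comp hshift)
    (fun i j => (contDiff_eval (p i j)).comp hshift) hQ0
  -- the coordinates of `X` as functions of those of `Y`
  have hrel : ∀ i, ∀ᶠ y in 𝓝 x, Q (C.κ y) * C.κ y i = ∑ j, P i j (C.κ y) * D.κ (Pts.map f y) j := by
    intro i
    have e1 : (algebraMap Γ(X, C.U) (X.presheaf.stalk x.pt) (u : Γ(X, C.U))) * C.γ i =
        ∑ j, algebraMap Γ(X, C.U) (X.presheaf.stalk x.pt) (b i j) * fR f x (D.γ j) := by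
      rw [← ha i, Finset.mul_sum]
      refine Finset.sum_congr rfl fun j _ => ?_
      rw [← mul_assoc, hb i j, Algebra.smul_def]
    have hsq : ∀ j, germFun x (phi x (fR f x (D.γ j))) = ↑(fun y => D.κ (Pts.map f y) j) := fun j => by
      rw [← RingHom.comp_apply (phi x), square, RingHom.comp_apply]
      exact germFun_gS f x _ _ (Chart.germFun_γ (Pts.map f x) D j)
    have e2 := congrArg (fun t => germFun x (phi x t)) e1
    simp only [map_mul, map_sum, hsq, C.germFun_γ, RingHom.algebraMap_toAlgebra, germFun_phi_germ] at e2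
    rw [← Germ.coe_mul, show (∑ j, (↑(evExt C.U (b i j)) : Germ (𝓝 x) ℂ) * ↑(fun y => D.κ (Pts.map f y) j)) =
        ↑(fun y => ∑ j, evExt C.U (b i j) y * D.κ (Pts.map f y) j) from by
      rw [show (fun y => ∑ j, evExt C.U (b i j) y * D.κ (Pts.map f y) j) =
        ∑ j, (evExt C.U (b i j) * fun y => D.κ (Pts.map f y) j) from funext fun y => by simp [Finset.sum_apply]]
      exact (map_sum (Germ.coeRingHom (𝓝 x)) _ _).symm, Germ.coe_eq] at e2
    filter_upwards [e2, hval _ q hq, eventually_all.2 fun j => hval _ (p i j) (hp i j)] with y h1 h2 h3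
    simp only [Pi.mul_apply, h2, h3] at h1
    exact h1
  have hκ : ∀ᶠ y in 𝓝 x, C.κ y = φ (D.κ (Pts.map f y)) := by
    have ht : Tendsto (fun y => (C.κ y, D.κ (Pts.map f y))) (𝓝 x) (𝓝 0) :=
      C.tendsto_κ.prodMk_nhds (D.tendsto_κ.comp ((Pts.continuous_map f).tendsto x))
    filter_upwards [ht.eventually hφ, eventually_all.2 hrel] with y h1 h2
    exact h1 h2
  intro σ
  obtain ⟨G₀, rfl⟩ := C.pullStalk_surjective σ
  obtain ⟨G, R, hR, hGd, hG⟩ := exists_gm G₀
  have hφc : ContinuousAt φ 0 := (hφd.differentiableAt (ball_mem_nhds 0 hr)).continuousAt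
  obtain ⟨r', hr', hsub⟩ := Metric.mem_nhds_iff.1 (inter_mem (ball_mem_nhds (0 : Fin D.n → ℂ) hr)
    (hφc.preimage_mem_nhds (t := ball (0 : Fin C.n → ℂ) R) (by rw [hφ0]; exact ball_mem_nhds _ hR)))
  refine ⟨D.pullStalk (gm (fun w => G (φ w)) ⟨r', hr',
    hGd.comp (hφd.mono fun w hw => (hsub hw).1) fun w hw => (hsub hw).2⟩), germFun_injective x ?_⟩
  rw [germFun_gS f x _ (fun y => G (φ (D.κ y))) (by rw [D.germFun_pullStalk]; exact D.compKappa_eq (G := fun w => G (φ w)) rfl),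
    C.germFun_pullStalk, C.compKappa_eq hG]
  exact Germ.coe_eq.2 (hκ.mono fun y hy => (congrArg G hy).symm)

theorem injective_gS_of_flat (h : (gS f x).Flat) [IsLocalHom (gS f x)] : Function.Injective (gS f x) := by
  letI := (gS f x).toAlgebra
  haveI : Module.Flat ((An.anSpace Y).presheaf.stalk (Pts.map f x)) ((An.anSpace X).presheaf.stalk x) := h
  haveI : IsLocalHom (algebraMap ((An.anSpace Y).presheaf.stalk (Pts.map f x)) ((An.anSpace X).presheaf.stalk x)) :=
    ‹IsLocalHom (gS f x)›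
  haveI : Module.FaithfullyFlat ((An.anSpace Y).presheaf.stalk (Pts.map f x)) ((An.anSpace X).presheaf.stalk x) :=
    Module.FaithfullyFlat.of_flat_of_isLocalHom
  have := Ideal.comap_map_eq_self_of_faithfullyFlat (B := (An.anSpace X).presheaf.stalk x)
    (⊥ : Ideal ((An.anSpace Y).presheaf.stalk (Pts.map f x)))
  rw [Ideal.map_bot] at this
  exact (RingHom.injective_iff_ker_eq_bot _).2 this

end

end Groth.Agent.AnStalkLib
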