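import Groth.Agent.AnStalkLib.Chart

/-! The analytic stalk: Noetherian local, with the same completion as the algebraic local ring. -/

set_option autoImplicit false
set_option backward.isDefEq.respectTransparency false
set_option backward.isDefEq.respectTransparency.types false
set_option maxHeartbeats 800000

open AlgebraicGeometry CategoryTheory TopologicalSpace Opposite Topology Filter

namespace Groth.Agent.AnStalkLib

open An An.Pts Groth.Agent.AnPts

noncomputable section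

variable {X : Scheme.{0}} [X.Over SC] [LocallyOfFiniteType (X ↘ SC)] (x : Pts X)

theorem nontrivial_stalk : Nontrivial ((An.anSpace X).presheaf.stalk x) := (evS x).domain_nontrivial

theorem isLocalRing_stalk : IsLocalRing ((An.anSpace X).presheaf.stalk x) := by
  obtain ⟨C⟩ := exists_chart x
  haveI := nontrivial_stalk x
  exact IsLocalRing.of_surjective' C.pullStalk C.pullStalk_surjective

theorem isNoetherianRing_stalk : IsNoetherianRing ((An.anSpace X).presheaf.stalk x) := by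
  obtain ⟨C⟩ := exists_chart x
  exact isNoetherianRing_of_surjective _ _ C.pullStalk C.pullStalk_surjective

theorem Chart.evS_pullStalk {x : Pts X} (C : Chart x) (φ : hol0 C.n) : evS x (C.pullStalk φ) = ev0 φ := by
  obtain ⟨G, _, -, -, hG⟩ := exists_gm φ
  show Germ.value (germFun x (C.pullStalk φ)) = Germ.value (φ : Germ (𝓝 (0 : Fin C.n → ℂ)) ℂ)
  rw [C.germFun_pullStalk, C.compKappa_eq hG, hG]
  exact congrArg G C.κ_self

/-- The ideal generated by the maximal ideal of the algebraic local ring. -/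
abbrev mS : Ideal ((An.anSpace X).presheaf.stalk x) := (IsLocalRing.maximalIdeal (X.presheaf.stalk x.pt)).map (phi x)

theorem mS_eq_ker : mS x = RingHom.ker (evS x) := by
  obtain ⟨C⟩ := exists_chart x
  refine le_antisymm (Ideal.map_le_iff_le_comap.2 fun a ha => ?_) fun σ hσ => ?_
  · rw [maximalIdeal_eq_ker_evR] at ha
    exact ha
  obtain ⟨φ, rfl⟩ := C.pullStalk_surjective σ
  have hφ : φ ∈ IsLocalRing.maximalIdeal (hol0 C.n) := by
    rw [maximalIdeal_eq_ker, RingHom.mem_ker]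
    rwa [RingHom.mem_ker, C.evS_pullStalk] at hσ
  rw [maximalIdeal_eq_span] at hφ
  have h1 := Ideal.mem_map_of_mem C.pullStalk hφ
  rw [Ideal.map_span] at h1
  refine Ideal.span_le.2 ?_ h1
  rintro _ ⟨_, ⟨i, rfl⟩, rfl⟩
  rw [C.pullStalk_crd]
  exact Ideal.mem_map_of_mem _ (C.γ_mem i)

theorem isMaximal_mS : (mS x).IsMaximal := by
  rw [mS_eq_ker]
  exact RingHom.ker_isMaximal_of_surjective _ fun c => ⟨phi x (cst x c), evS_cst x c⟩

theorem eq_mS_of_isMaximal (I : Ideal ((An.anSpace X).presheaf.stalk x)) (hI : I.IsMaximal) : I = mS x := by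
  haveI := isLocalRing_stalk x
  rw [IsLocalRing.eq_maximalIdeal hI, IsLocalRing.eq_maximalIdeal (isMaximal_mS x)]

/-- Successive approximation by regular functions. -/
theorem exists_approx (k : ℕ) : ∀ σ ∈ mS x ^ k,
    ∃ a ∈ IsLocalRing.maximalIdeal (X.presheaf.stalk x.pt) ^ k, σ - phi x a ∈ mS x ^ (k + 1) := by
  intro σ hσ
  rw [mS, ← Ideal.map_pow, Ideal.map, ← Ideal.submodule_span_eq] at hσ
  induction hσ using Submodule.span_induction with
  | mem z hz =>
    obtain ⟨a, ha, rfl⟩ := hz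
    exact ⟨a, ha, by simp⟩
  | zero => exact ⟨0, zero_mem _, by simp⟩
  | add z w _ _ hz hw =>
    obtain ⟨a, ha, ha'⟩ := hz
    obtain ⟨b, hb, hb'⟩ := hw
    exact ⟨a + b, add_mem ha hb, by rw [map_add, add_sub_add_comm]; exact add_mem ha' hb'⟩
  | smul r z _ hz =>
    obtain ⟨a, ha, ha'⟩ := hz
    have hc : r - phi x (cst x (evS x r)) ∈ mS x := by
      rw [mS_eq_ker, RingHom.mem_ker, map_sub, evS_cst, sub_self]
    refine ⟨cst x (evS x r) * a, Ideal.mul_mem_left _ _ ha, ?_⟩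
    rw [smul_eq_mul, map_mul, show r * z - phi x (cst x (evS x r)) * phi x a =
      r * (z - phi x a) + phi x a * (r - phi x (cst x (evS x r))) by ring]
    refine add_mem (Ideal.mul_mem_left _ _ ha') ?_
    rw [pow_succ]
    exact Ideal.mul_mem_mul (by rw [mS, ← Ideal.map_pow]; exact Ideal.mem_map_of_mem _ ha) hc

theorem exists_approx_le (n : ℕ) : ∀ (M : ℕ), ∀ σ ∈ mS x ^ n,
    ∃ a ∈ IsLocalRing.maximalIdeal (X.presheaf.stalk x.pt) ^ n, σ - phi x a ∈ mS x ^ (n + M)
  | 0, σ, hσ => ⟨0, zero_mem _, by simpa using hσ⟩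
  | M + 1, σ, hσ => by
    obtain ⟨a, ha, ha'⟩ := exists_approx_le n M σ hσ
    obtain ⟨b, hb, hb'⟩ := exists_approx x (n + M) _ ha'
    exact ⟨a + b, add_mem ha (Ideal.pow_le_pow_right (Nat.le_add_right n M) hb), by rwa [map_add, ← sub_sub]⟩

theorem exists_sub_mem_pow (n : ℕ) (b : (An.anSpace X).presheaf.stalk x) :
    ∃ a, phi x a - b ∈ mS x ^ n := by
  obtain ⟨a, -, ha⟩ := exists_approx_le x 0 n b (by simp)
  rw [zero_add] at ha
  exact ⟨a, by simpa using neg_mem ha⟩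

namespace Chart

variable {x} (C : Chart x)

/-- Germs bounded by a power of the distance to the point. -/
def bnd (k : ℕ) : Ideal ((An.anSpace X).presheaf.stalk x) where
  carrier := {σ | ∃ (G : Pts X → ℂ) (c : ℝ), germFun x σ = ↑G ∧ ∀ᶠ y in 𝓝 x, ‖G y‖ ≤ c * (∑ i, ‖C.κ y i‖) ^ k}
  add_mem' := by
    rintro a b ⟨G, c, hG, hc⟩ ⟨H, e, hH, he⟩
    refine ⟨G + H, c + e, by rw [map_add, hG, hH]; rfl, ?_⟩
    filter_upwards [hc, he] with y h1 h2
    rw [add_mul]
    exact (norm_add_le _ _).trans (add_le_add h1 h2)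
  zero_mem' := ⟨0, 0, by rw [map_zero]; rfl, by simp⟩
  smul_mem' := by
    rintro r a ⟨G, c, hG, hc⟩
    obtain ⟨φ, rfl⟩ := C.pullStalk_surjective r
    obtain ⟨H, R, hR, hHd, hH⟩ := exists_gm φ
    refine ⟨(fun y => H (C.κ y)) * G, (‖H 0‖ + 1) * max c 0,
      by rw [smul_eq_mul, map_mul, C.germFun_pullStalk, C.compKappa_eq hH, hG]; rfl, ?_⟩
    have h1 := ((hHd.continuousOn.continuousAt (Metric.ball_mem_nhds 0 hR)).tendsto.comp C.tendsto_κ).norm.eventually
      (gt_mem_nhds (lt_add_one _))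
    filter_upwards [hc, h1] with y hy hy1
    rw [Pi.mul_apply, norm_mul, mul_assoc]
    exact mul_le_mul hy1.le (hy.trans (mul_le_mul_of_nonneg_right (le_max_left _ _) (by positivity))) (norm_nonneg _)
      (by positivity)

theorem mS_le_bnd_one : mS x ≤ C.bnd 1 := by
  rw [mS_eq_ker]
  intro σ hσ
  obtain ⟨φ, rfl⟩ := C.pullStalk_surjective σ
  have hφ : φ ∈ IsLocalRing.maximalIdeal (hol0 C.n) := by
    rw [maximalIdeal_eq_ker, RingHom.mem_ker]
    rwa [RingHom.mem_ker, C.evS_pullStalk] at hσ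
  rw [maximalIdeal_eq_span] at hφ
  have h1 := Ideal.mem_map_of_mem C.pullStalk hφ
  rw [Ideal.map_span] at h1
  refine Ideal.span_le.2 ?_ h1
  rintro _ ⟨_, ⟨i, rfl⟩, rfl⟩
  refine ⟨fun y => C.κ y i, 1, by rw [C.germFun_pullStalk]; exact C.compKappa_eq (G := fun z => z i) rfl,
    Eventually.of_forall fun y => ?_⟩
  rw [one_mul, pow_one]
  exact Finset.single_le_sum (f := fun i => ‖C.κ y i‖) (fun i _ => norm_nonneg _) (Finset.mem_univ i)

theorem bnd_zero : C.bnd 0 = ⊤ := by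
  refine eq_top_iff.2 fun σ _ => ?_
  obtain ⟨φ, rfl⟩ := C.pullStalk_surjective σ
  obtain ⟨H, R, hR, hHd, hH⟩ := exists_gm φ
  refine ⟨fun y => H (C.κ y), ‖H 0‖ + 1, by rw [C.germFun_pullStalk, C.compKappa_eq hH], ?_⟩
  filter_upwards [((hHd.continuousOn.continuousAt (Metric.ball_mem_nhds 0 hR)).tendsto.comp C.tendsto_κ).norm.eventually
      (gt_mem_nhds (lt_add_one _))] with y hy
  rw [pow_zero, mul_one]
  exact hy.le

theorem bnd_mul (j k : ℕ) : C.bnd j * C.bnd k ≤ C.bnd (j + k) := by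
  refine Ideal.mul_le.2 fun a ha b hb => ?_
  obtain ⟨G, c, hG, hc⟩ := ha
  obtain ⟨H, e, hH, he⟩ := hb
  refine ⟨G * H, c * e, by rw [map_mul, hG, hH]; rfl, ?_⟩
  filter_upwards [hc, he] with y h1 h2
  rw [Pi.mul_apply, norm_mul, pow_add, mul_mul_mul_comm]
  exact mul_le_mul h1 h2 (norm_nonneg _) ((norm_nonneg _).trans h1)

theorem mS_pow_le (k : ℕ) : mS x ^ k ≤ C.bnd k := by
  induction k with
  | zero => rw [C.bnd_zero]; exact le_top
  | succ k ih => rw [pow_succ]; exact (Ideal.mul_mono ih C.mS_le_bnd_one).trans (C.bnd_mul k 1)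

include C in
/-- Regular functions vanishing to high order as holomorphic functions lie in high powers of the maximal ideal. -/
theorem exists_order_stalk [IsReduced X] (N : ℕ) :
    ∃ M, ∀ a, phi x a ∈ mS x ^ M → a ∈ IsLocalRing.maximalIdeal (X.presheaf.stalk x.pt) ^ N := by
  classical
  letI := opensOver C.U
  haveI : C.U.ι.IsOver SC := ⟨rfl⟩
  haveI : IsAffine (C.U : Scheme) := C.hU
  haveI := locallyOfFiniteType_opens C.U
  letI : Algebra ℂ Γ((C.U : Scheme), ⊤) := (strHom (C.U : Scheme)).toAlgebra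
  haveI : Algebra.FiniteType ℂ Γ((C.U : Scheme), ⊤) := Groth.Agent.AnPts.finiteType_strHom
  have hle : (⊤ : (C.U : Scheme).Opens) ≤ C.U.ι ⁻¹ᵁ C.U := by rw [Scheme.Opens.ι_preimage_self]
  obtain ⟨w₀, hw₀⟩ : x ∈ Set.range (Pts.map C.U.ι) := by
    rw [range_map_of_isOpenImmersion, Set.mem_preimage, Scheme.Opens.range_ι]; exact C.mem
  let φ₀ : Γ((C.U : Scheme), ⊤) →ₐ[ℂ] ℂ := { evHom w₀ ⊤ trivial with commutes' := evTop_strHom w₀ }
  obtain ⟨M, hM⟩ := exists_order φ₀ N
  have hpt : ∀ w : Pts (C.U : Scheme), (Pts.map C.U.ι w).pt ∈ C.U := fun w => by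
    rw [pt_map]; exact (C.U.range_ι).le ⟨_, rfl⟩
  let T : Γ(X, C.U) →+* Γ((C.U : Scheme), ⊤) := (C.U.ι.appLE C.U ⊤ hle).hom
  have hTev : ∀ (w : Pts (C.U : Scheme)) (f : Γ(X, C.U)), w.evTop (T f) = (Pts.map C.U.ι w).ev C.U (hpt w) f := by
    intro w f
    rw [Pts.ev_map]
    show w.evTop ((C.U.ι.appLE C.U ⊤ hle).hom f) = _
    rw [Scheme.Hom.appLE, CategoryTheory.comp_apply]
    exact AnPts.ev_res w hle _ _
  refine ⟨M, fun a ha => ?_⟩
  letI : Algebra Γ(X, C.U) (X.presheaf.stalk x.pt) := TopCat.Presheaf.algebra_section_stalk X.presheaf ⟨x.pt, C.mem⟩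
  haveI : IsLocalization.AtPrime (X.presheaf.stalk x.pt) (C.hU.primeIdealOf ⟨x.pt, C.mem⟩).asIdeal :=
    C.hU.isLocalization_stalk ⟨x.pt, C.mem⟩
  obtain ⟨⟨b, u⟩, hab⟩ := IsLocalization.surj (C.hU.primeIdealOf ⟨x.pt, C.mem⟩).asIdeal.primeCompl a
  have hab' : a * (X.presheaf.germ C.U x.pt C.mem).hom u = (X.presheaf.germ C.U x.pt C.mem).hom b := hab
  have huu : IsUnit ((X.presheaf.germ C.U x.pt C.mem).hom u) :=
    IsLocalization.map_units (X.presheaf.stalk x.pt) u
  suffices (X.presheaf.germ C.U x.pt C.mem).hom b ∈ IsLocalRing.maximalIdeal (X.presheaf.stalk x.pt) ^ N by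
    rw [← hab'] at this
    exact (Ideal.mul_unit_mem_iff_mem _ huu).1 this
  obtain ⟨G, c, hG, hc⟩ : phi x ((X.presheaf.germ C.U x.pt C.mem).hom b) ∈ C.bnd M := by
    rw [← hab', map_mul]
    exact Ideal.mul_mem_right _ _ (C.mS_pow_le M ha)
  rw [germFun_phi_germ, Germ.coe_eq] at hG
  have hev : ∀ᶠ y in 𝓝 x, ‖evExt C.U b y‖ ≤ c * (∑ i, ‖C.κ y i‖) ^ M := by
    filter_upwards [hG, hc] with y h1 h2
    rwa [h1]
  -- transfer to the homomorphisms of the coordinate ring
  let E : Pts (C.U : Scheme) → (Γ((C.U : Scheme), ⊤) → ℂ) := fun w f => w.evTop f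
  have hrange : Set.range E = homSet Γ((C.U : Scheme), ⊤) := by
    ext v
    constructor
    · rintro ⟨w, rfl⟩
      exact ⟨{ evHom w ⊤ trivial with commutes' := evTop_strHom w }, rfl⟩
    · rintro ⟨ψ, rfl⟩
      obtain ⟨w, hw⟩ := exists_of_ringHom (X := (C.U : Scheme)) (ψ : Γ((C.U : Scheme), ⊤) →+* ℂ) fun c => ψ.commutes c
      exact ⟨w, funext hw⟩
  let g : Fin C.n → Γ((C.U : Scheme), ⊤) := fun i => T (C.s i - C.str (x.ev C.U C.mem (C.s i)))
  have hg : ∀ (w : Pts (C.U : Scheme)) (i : Fin C.n), w.evTop (g i) = C.κ (Pts.map C.U.ι w) i := fun w i => by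
    rw [hTev, ← evExt_of_mem _ (hpt w), C.evExt_γ i _ (hpt w)]
  have hbd : Bd φ₀ M (T b) := by
    refine ⟨Finset.univ.image g, fun z hz => ?_, |c| * (C.n : ℝ) ^ M, ?_⟩
    · obtain ⟨i, -, rfl⟩ := Finset.mem_image.1 hz
      show w₀.evTop (g i) = 0
      rw [hg, hw₀, C.κ_self]
      rfl
    rw [show (φ₀ : Γ((C.U : Scheme), ⊤) → ℂ) = E w₀ from rfl, ← hrange, ← (isInducing_evTop (X := (C.U : Scheme))).map_nhds_eq,
      eventually_map]
    have ht := (continuous_map C.U.ι).tendsto w₀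
    rw [hw₀] at ht
    filter_upwards [ht.eventually hev] with w hw
    rw [evExt_of_mem _ (hpt w)] at hw
    show ‖w.evTop (T b)‖ ≤ _
    rw [hTev]
    refine hw.trans ((mul_le_mul_of_nonneg_right (le_abs_self c) (by positivity)).trans ?_)
    rw [mul_assoc, ← mul_pow]
    refine mul_le_mul_of_nonneg_left (pow_le_pow_left₀ (by positivity) ?_ M) (abs_nonneg c)
    calc ∑ i, ‖C.κ (Pts.map C.U.ι w) i‖ ≤ ∑ _i : Fin C.n, ∑ z ∈ Finset.univ.image g, ‖w.evTop z‖ := by
          refine Finset.sum_le_sum fun i _ => ?_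
          rw [← hg]
          exact Finset.single_le_sum (f := fun z => ‖w.evTop z‖) (fun z _ => norm_nonneg _)
            (Finset.mem_image_of_mem g (Finset.mem_univ i))
      _ = _ := by rw [Finset.sum_const, Finset.card_univ, Fintype.card_fin, nsmul_eq_mul]
  have hmem := hM _ hbd
  have hT : Function.Bijective T := by
    haveI : IsIso (C.U.ι.appLE C.U ⊤ hle) := by
      rw [Scheme.Opens.ι_appLE]
      have he : C.U.ι ''ᵁ (⊤ : (C.U : Scheme).Opens) = C.U := C.U.ι_image_top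
      rw [show ∀ h, (homOfLE h : C.U.ι ''ᵁ (⊤ : (C.U : Scheme).Opens) ⟶ C.U) = eqToHom he from fun h => Subsingleton.elim _ _]
      infer_instance
    exact ConcreteCategory.bijective_of_isIso (C.U.ι.appLE C.U ⊤ hle)
  let Te := RingEquiv.ofBijective T hT
  have h1 : b ∈ ((RingHom.ker φ₀).map (Te.symm : Γ((C.U : Scheme), ⊤) →+* Γ(X, C.U))) ^ N := by
    rw [← Ideal.map_pow, ← Te.symm_apply_apply b]
    exact Ideal.mem_map_of_mem _ hmem
  have h2 := Ideal.mem_map_of_mem (X.presheaf.germ C.U x.pt C.mem).hom h1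
  rw [Ideal.map_pow] at h2
  refine Ideal.pow_right_mono ?_ N h2
  rw [Ideal.map_map, Ideal.map_le_iff_le_comap]
  intro z hz
  rw [Ideal.mem_comap, maximalIdeal_eq_ker_evR, RingHom.mem_ker, RingHom.comp_apply, RingHom.comp_apply, evS_phi_germ]
  have h3 : T (Te.symm z) = z := Te.apply_symm_apply z
  have h4 := hTev w₀ (Te.symm z)
  rw [h3] at h4
  simp only [hw₀] at h4
  exact h4.symm.trans hz

end Chart

theorem mem_pow_of_phi_mem [IsReduced X] (n : ℕ) (a : X.presheaf.stalk x.pt) (ha : phi x a ∈ mS x ^ n) :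
    a ∈ IsLocalRing.maximalIdeal (X.presheaf.stalk x.pt) ^ n := by
  obtain ⟨C⟩ := exists_chart x
  obtain ⟨M, hM⟩ := C.exists_order_stalk n
  obtain ⟨b, hb, hab⟩ := exists_approx_le x n M _ ha
  rw [← map_sub] at hab
  have := hM (a - b) (Ideal.pow_le_pow_right (Nat.le_add_left M n) hab)
  simpa using add_mem this hb

end

end Groth.Agent.AnStalkLib
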