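import Groth.Agent.AnStalkLib.Transfer
import Groth.Agent.PullbackMod.Hom

/-! Stalks of analytifications of modules. -/

set_option autoImplicit false
set_option backward.isDefEq.respectTransparency false
set_option backward.isDefEq.respectTransparency.types false
set_option backward.defeqAttrib.useBackward true
set_option linter.style.haveILetI false

open CategoryTheory CategoryTheory.Limits AlgebraicGeometry TopologicalSpace Opposite
open scoped TensorProduct

namespace Groth.Agent.AnStalkLib

open An An.Pts

noncomputable section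

variable {X : Scheme.{0}} [X.Over SC]

/-- The presheaf of abelian groups underlying an analytic module. -/
abbrev aP (N : AnMod X) : TopCat.Presheaf Ab (An.top X) := N.val.presheaf

/-- The map on presheaves of a map of analytic modules. -/
abbrev aMap {N K : AnMod X} (φ : N ⟶ K) : aP N ⟶ aP K := (PresheafOfModules.toPresheaf _).map φ.val

instance stalkModule (N : AnMod X) (x : (An.top X : Type)) :
    Module ((An.anSpace X).presheaf.stalk x) ((aP N).stalk x) :=
  PresheafOfModules.instModuleCarrierStalkCommRingCatCarrierAbPresheafOpensCarrier (R := An.holPresheaf X) N.val x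

theorem germ_smul_an (N : AnMod X) (x : (An.top X : Type)) (V : Opens (An.top X)) (hx : x ∈ V)
    (r : (An.holPresheaf X).obj (op V)) (m : N.val.obj (op V)) :
    (aP N).germ V x hx (r • m) = ((An.anSpace X).presheaf.germ V x hx r) • (aP N).germ V x hx m :=
  PresheafOfModules.germ_smul (R := An.holPresheaf X) N.val x V hx r m

/-- A map of analytic modules on a stalk. -/
def aStalk {N K : AnMod X} (φ : N ⟶ K) (x : (An.top X : Type)) :
    (aP N).stalk x →ₗ[(An.anSpace X).presheaf.stalk x] (aP K).stalk x where
  toFun := (TopCat.Presheaf.stalkFunctor Ab x).map (aMap φ)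
  map_add' := map_add _
  map_smul' a z := by
    obtain ⟨V, hV, a, rfl⟩ := TopCat.Presheaf.exists_germ_eq (F := (An.anSpace X).presheaf) a
    obtain ⟨W, hW, z, rfl⟩ := TopCat.Presheaf.exists_germ_eq (F := aP N) z
    have hx : x ∈ V ⊓ W := ⟨hV, hW⟩
    rw [← (An.anSpace X).presheaf.germ_res_apply (homOfLE (inf_le_left : V ⊓ W ≤ V)) x hx a,
      ← (aP N).germ_res_apply (homOfLE (inf_le_right : V ⊓ W ≤ W)) x hx z]
    erw [← germ_smul_an N x (V ⊓ W) hx, TopCat.Presheaf.stalkFunctor_map_germ_apply,
      TopCat.Presheaf.stalkFunctor_map_germ_apply]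
    refine (congrArg ((aP K).germ (V ⊓ W) x hx) (map_smul (φ.val.app (op (V ⊓ W))).hom _ _)).trans ?_
    exact germ_smul_an K x (V ⊓ W) hx _ _

theorem aStalk_germ {N K : AnMod X} (φ : N ⟶ K) (x : (An.top X : Type)) (V : Opens (An.top X)) (hx : x ∈ V) (m : N.val.obj (op V)) :
    aStalk φ x ((aP N).germ V x hx m) = (aP K).germ V x hx ((φ.val.app (op V)).hom m) :=
  TopCat.Presheaf.stalkFunctor_map_germ_apply V x hx (aMap φ) m

theorem mono_of_stalk {N K : AnMod X} (φ : N ⟶ K) (h : ∀ x, Function.Injective (aStalk φ x)) : Mono φ := by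
  have h1 : ∀ U : Opens (An.top X), Function.Injective ((aMap φ).app (op U)) :=
    (TopCat.Presheaf.app_injective_iff_stalkFunctor_map_injective
      (F := (⟨aP N, N.isSheaf⟩ : TopCat.Sheaf Ab (An.top X))) (aMap φ)).1 h
  haveI : Mono (aMap φ) := by
    haveI : ∀ U, Mono ((aMap φ).app U) := fun U => (AddCommGrpCat.mono_iff_injective _).mpr (h1 U.unop)
    exact NatTrans.mono_of_mono_app (aMap φ)
  haveI : Mono φ.val := (PresheafOfModules.toPresheaf _).mono_of_mono_map ‹Mono (aMap φ)›
  exact (SheafOfModules.forget _).mono_of_mono_map ‹Mono φ.val›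

/-- The analytification. -/
abbrev anOb (M : X.Modules) : AnMod X := (An.analytify X).obj M

/-- Sections of a module give sections of its analytification. -/
def anSec (M : X.Modules) (U : X.Opens) : Γ(M, U) →+ (anOb M).val.obj (op ((An.baseF X).obj U)) :=
  (((An.analytifyAdj X).unit.app M).val.app (op U)).hom.toAddMonoidHom

theorem anSec_res (M : X.Modules) {U V : X.Opens} (i : V ≤ U) (m : Γ(M, U)) :
    anSec M V (M.presheaf.map (homOfLE i).op m) =
      (aP (anOb M)).map ((An.baseF X).map (homOfLE i)).op (anSec M U m) :=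
  PresheafOfModules.naturality_apply ((An.analytifyAdj X).unit.app M).val (homOfLE i).op m

theorem anSec_smul (M : X.Modules) (U : X.Opens) (r : Γ(X, U)) (m : Γ(M, U)) :
    anSec M U (r • m) = ((An.toHolApp U).hom r : (An.holPresheaf X).obj (op ((An.baseF X).obj U))) • anSec M U m :=
  map_smul (((An.analytifyAdj X).unit.app M).val.app (op U)).hom r m

/-- The cocone of germs of analytified sections. -/
def anCocone (M : X.Modules) (x : (An.top X : Type)) : Cocone ((OpenNhds.inclusion (Pts.pt x)).op ⋙ M.presheaf) where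
  pt := (aP (anOb M)).stalk x
  ι :=
    { app := fun U => AddCommGrpCat.ofHom
        (((aP (anOb M)).germ ((An.baseF X).obj U.unop.1) x U.unop.2).hom.comp (anSec M U.unop.1))
      naturality := fun U V i => by
        ext m
        show (aP (anOb M)).germ _ x V.unop.2 (anSec M V.unop.1 (M.presheaf.map (homOfLE (leOfHom i.unop)).op m)) =
          (aP (anOb M)).germ _ x U.unop.2 (anSec M U.unop.1 m)
        exact (congrArg ((aP (anOb M)).germ _ x V.unop.2) (anSec_res M _ m)).trans
          ((aP (anOb M)).germ_res_apply _ x V.unop.2 _) }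

/-- The canonical map from the algebraic to the analytic stalk. -/
def anStalk (M : X.Modules) (x : (An.top X : Type)) : M.presheaf.stalk (Pts.pt x) →+ (aP (anOb M)).stalk x :=
  (colimit.desc _ (anCocone M x)).hom

theorem anStalk_germ (M : X.Modules) (x : (An.top X : Type)) (U : X.Opens) (hU : (Pts.pt x) ∈ U) (m : Γ(M, U)) :
    anStalk M x (M.presheaf.germ U (Pts.pt x) hU m) = (aP (anOb M)).germ ((An.baseF X).obj U) x hU (anSec M U m) :=
  ConcreteCategory.congr_hom (colimit.ι_desc (anCocone M x) (op (⟨U, hU⟩ : OpenNhds (Pts.pt x)))) m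

theorem phi_germ (x : (An.top X : Type)) (U : X.Opens) (hU : (Pts.pt x) ∈ U) (r : Γ(X, U)) :
    phi x ((X.presheaf.germ U (Pts.pt x) hU).hom r) =
      ((An.anSpace X).presheaf.germ ((An.baseF X).obj U) x hU).hom ((An.toHolApp U).hom r) := by
  have h1 := ConcreteCategory.congr_hom (PresheafedSpace.stalkMap_germ (An.anToScheme X) U x hU) r
  simp only [CategoryTheory.comp_apply] at h1
  exact h1

theorem anStalk_smul (M : X.Modules) (x : (An.top X : Type)) (a : X.presheaf.stalk (Pts.pt x)) (z : M.presheaf.stalk (Pts.pt x)) :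
    anStalk M x (a • z) = phi x a • anStalk M x z := by
  obtain ⟨V, hV, a, rfl⟩ := TopCat.Presheaf.exists_germ_eq X.presheaf a
  obtain ⟨W, hW, z, rfl⟩ := TopCat.Presheaf.exists_germ_eq M.presheaf z
  have hx : (Pts.pt x) ∈ V ⊓ W := ⟨hV, hW⟩
  rw [← X.presheaf.germ_res_apply (homOfLE (inf_le_left : V ⊓ W ≤ V)) (Pts.pt x) hx a,
    ← M.presheaf.germ_res_apply (homOfLE (inf_le_right : V ⊓ W ≤ W)) (Pts.pt x) hx z]
  erw [← PresheafOfModules.germ_smul (R := X.presheaf) M.val (Pts.pt x) (V ⊓ W) hx]
  refine (anStalk_germ M x _ hx _).trans ((congrArg _ (anSec_smul M _ _ _)).trans ?_)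
  refine (germ_smul_an (anOb M) x _ hx _ _).trans ?_
  exact congr_arg₂ (· • ·) (phi_germ x _ hx _).symm (anStalk_germ M x _ hx _).symm

section Sky

variable (x : (An.top X : Type)) (Q : Type) [AddCommGroup Q] [Module ((An.anSpace X).presheaf.stalk x) Q]

/-- Sections of a skyscraper module. -/
def ASkyObj (V : Opens (An.top X)) : Type := PLift (x ∈ V) → Q

instance (V : Opens (An.top X)) : AddCommGroup (ASkyObj x Q V) :=
  inferInstanceAs (AddCommGroup (PLift (x ∈ V) → Q))

/-- The germ as a ring homomorphism. -/
abbrev gH (V : Opens (An.top X)) (h : x ∈ V) :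
    (An.holPresheaf X).obj (op V) →+* (An.anSpace X).presheaf.stalk x :=
  ((An.anSpace X).presheaf.germ V x h).hom

instance (V : Opens (An.top X)) : Module ((An.holPresheaf X).obj (op V)) (ASkyObj x Q V) where
  smul a s h := gH x V h.down a • s h
  one_smul s := funext fun h => by
    show gH x V h.down 1 • s h = s h
    rw [map_one, one_smul]
  mul_smul a b s := funext fun h => by
    show gH x V h.down (a * b) • s h = gH x V h.down a • (gH x V h.down b • s h)
    rw [map_mul, mul_smul]
  smul_zero a := funext fun h => by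
    show gH x V h.down a • (0 : Q) = 0
    rw [smul_zero]
  smul_add a s t := funext fun h => smul_add (gH x V h.down a) (s h) (t h)
  add_smul a b s := funext fun h => by
    show gH x V h.down (a + b) • s h = gH x V h.down a • s h + gH x V h.down b • s h
    rw [map_add, add_smul]
  zero_smul s := funext fun h => by
    show gH x V h.down 0 • s h = 0
    rw [map_zero, zero_smul]

/-- The skyscraper presheaf of abelian groups. -/
def askyAb : TopCat.Presheaf Ab (An.top X) where
  obj V := AddCommGrpCat.of (ASkyObj x Q V.unop)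
  map {U V} i := AddCommGrpCat.ofHom
    { toFun := fun s h => s ⟨i.unop.le h.down⟩
      map_zero' := rfl
      map_add' := fun _ _ => rfl }
  map_id _ := rfl
  map_comp _ _ := rfl

instance (V : (Opens (An.top X))ᵒᵖ) :
    Module ((An.holRing X).obj.obj V) ((askyAb x Q).obj V) :=
  inferInstanceAs (Module ((An.holPresheaf X).obj (op V.unop)) (ASkyObj x Q V.unop))

omit [Module ((An.anSpace X).presheaf.stalk x) Q] in
theorem askyAb_isSheaf : (askyAb x Q).IsSheaf := by
  rw [TopCat.Presheaf.isSheaf_iff_isSheafUniqueGluing]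
  intro ι U sf hsf
  classical
  have hx : ∀ h : x ∈ iSup U, ∃ i, x ∈ U i := fun h => Opens.mem_iSup.mp h
  refine ⟨fun h => sf (hx h.down).choose ⟨(hx h.down).choose_spec⟩, fun i => ?_, fun s hs => ?_⟩
  · funext h
    exact congrFun (hsf (hx ((le_iSup U i) h.down)).choose i)
      ⟨⟨(hx ((le_iSup U i) h.down)).choose_spec, h.down⟩⟩
  · funext h
    exact congrFun (hs (hx h.down).choose) ⟨(hx h.down).choose_spec⟩

/-- The skyscraper module. -/
def asky : AnMod X where
  val := PresheafOfModules.ofPresheaf (askyAb x Q) fun U V i r s => funext fun h => by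
    show gH x U.unop (i.unop.le h.down) r • s ⟨i.unop.le h.down⟩ =
      gH x V.unop h.down ((An.holPresheaf X).map i r) • s ⟨i.unop.le h.down⟩
    refine congrArg (· • s ⟨i.unop.le h.down⟩) ?_
    exact ((An.anSpace X).presheaf.germ_res_apply i.unop x h.down r).symm
  isSheaf := askyAb_isSheaf x Q

variable {x Q}

/-- Maps into a skyscraper module from maps of the stalk. -/
def atoSky {N : AnMod X} (l : (aP N).stalk x →ₗ[(An.anSpace X).presheaf.stalk x] Q) : N ⟶ asky x Q where
  val := PresheafOfModules.homMk
    { app := fun U => AddCommGrpCat.ofHom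
        (show (aP N).obj U →+ ASkyObj x Q U.unop from
        { toFun := fun m h => l ((aP N).germ U.unop x h.down m)
          map_zero' := funext fun h => by rw [map_zero, map_zero]; rfl
          map_add' := fun a b => funext fun h => by
            show l ((aP N).germ U.unop x h.down (a + b)) = _
            rw [map_add, map_add]
            rfl })
      naturality := fun U V i => by
        ext m
        funext h
        show l ((aP N).germ V.unop x h.down ((aP N).map i.unop.op m)) =
          l ((aP N).germ U.unop x (i.unop.le h.down) m)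
        rw [(aP N).germ_res_apply] }
    fun U r m => funext fun h => by
      show l ((aP N).germ U.unop x h.down (r • m)) = gH x U.unop h.down r • l ((aP N).germ U.unop x h.down m)
      rw [← map_smul]
      exact congrArg l (germ_smul_an N x U.unop h.down r m)

theorem atoSky_app {N : AnMod X} (l : (aP N).stalk x →ₗ[(An.anSpace X).presheaf.stalk x] Q)
    (V : Opens (An.top X)) (m : N.val.obj (op V)) (h : PLift (x ∈ V)) :
    (show ASkyObj x Q V from ((atoSky l).val.app (op V)).hom m) h = l ((aP N).germ V x h.down m) := rfl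

/-- The cocone given by a map to a skyscraper module. -/
def askyCocone {N : AnMod X} (ψ : N ⟶ asky x Q) : Cocone ((OpenNhds.inclusion x).op ⋙ aP N) where
  pt := AddCommGrpCat.of Q
  ι :=
    { app := fun U => AddCommGrpCat.ofHom
        { toFun := fun m => (show ASkyObj x Q U.unop.1 from (aMap ψ).app (op U.unop.1) m) ⟨U.unop.2⟩
          map_zero' := by rw [map_zero]; rfl
          map_add' := fun a b => by rw [map_add]; rfl }
      naturality := fun U V i => by
        ext m
        exact congrFun (ConcreteCategory.congr_hom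
          ((aMap ψ).naturality ((OpenNhds.inclusion x).op.map i)) m) ⟨V.unop.2⟩ }

/-- The map of the stalk given by a map to a skyscraper module. -/
def aofSky {N : AnMod X} (ψ : N ⟶ asky x Q) :
    (aP N).stalk x →ₗ[(An.anSpace X).presheaf.stalk x] Q :=
  let φ : (aP N).stalk x →+ Q := (colimit.desc _ (askyCocone ψ)).hom
  have hφ : ∀ (U : Opens (An.top X)) (hx : x ∈ U) (m : N.val.obj (op U)),
      φ ((aP N).germ U x hx m) = (show ASkyObj x Q U from (ψ.val.app (op U)).hom m) ⟨hx⟩ := fun U hx m =>
    ConcreteCategory.congr_hom (colimit.ι_desc (askyCocone ψ) (op (⟨U, hx⟩ : OpenNhds x))) m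
  { toFun := φ
    map_add' := map_add φ
    map_smul' := fun a z => by
      obtain ⟨V, hxV, a, rfl⟩ := TopCat.Presheaf.exists_germ_eq (F := (An.anSpace X).presheaf) a
      obtain ⟨W, hxW, z, rfl⟩ := TopCat.Presheaf.exists_germ_eq (F := aP N) z
      have hx : x ∈ V ⊓ W := ⟨hxV, hxW⟩
      rw [← (An.anSpace X).presheaf.germ_res_apply (homOfLE (inf_le_left : V ⊓ W ≤ V)) x hx a,
        ← (aP N).germ_res_apply (homOfLE (inf_le_right : V ⊓ W ≤ W)) x hx z]
      erw [← germ_smul_an N x (V ⊓ W) hx, hφ, hφ]
      exact congrFun (map_smul (ψ.val.app (op (V ⊓ W))).hom _ _) ⟨hx⟩ }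

theorem aofSky_germ {N : AnMod X} (ψ : N ⟶ asky x Q) (U : Opens (An.top X)) (hx : x ∈ U) (m : N.val.obj (op U)) :
    aofSky ψ ((aP N).germ U x hx m) = (show ASkyObj x Q U from (ψ.val.app (op U)).hom m) ⟨hx⟩ := by
  exact ConcreteCategory.congr_hom (colimit.ι_desc (askyCocone ψ) (op (⟨U, hx⟩ : OpenNhds x))) m

end Sky

/-- The stalk map, linear over the algebraic local ring. -/
def anStalkL (M : X.Modules) (x : (An.top X : Type)) :
    letI := Module.compHom ((aP (anOb M)).stalk x) (phi x)
    M.presheaf.stalk (Pts.pt x) →ₗ[X.presheaf.stalk (Pts.pt x)] (aP (anOb M)).stalk x :=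
  letI := Module.compHom ((aP (anOb M)).stalk x) (phi x)
  { anStalk M x with map_smul' := anStalk_smul M x }

/-- The stalk of the analytification is a base change. -/
theorem isBaseChange_anStalkL (M : X.Modules) (x : (An.top X : Type)) :
    letI : Algebra (X.presheaf.stalk (Pts.pt x)) ((An.anSpace X).presheaf.stalk x) := (phi x).toAlgebra
    letI := Module.compHom ((aP (anOb M)).stalk x) (phi x)
    haveI : IsScalarTower (X.presheaf.stalk (Pts.pt x)) ((An.anSpace X).presheaf.stalk x) ((aP (anOb M)).stalk x) :=
      .of_algebraMap_smul fun _ _ => rfl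
    IsBaseChange ((An.anSpace X).presheaf.stalk x) (anStalkL M x) := by
  letI : Algebra (X.presheaf.stalk (Pts.pt x)) ((An.anSpace X).presheaf.stalk x) := (phi x).toAlgebra
  letI := Module.compHom ((aP (anOb M)).stalk x) (phi x)
  haveI : IsScalarTower (X.presheaf.stalk (Pts.pt x)) ((An.anSpace X).presheaf.stalk x) ((aP (anOb M)).stalk x) :=
    .of_algebraMap_smul fun _ _ => rfl
  show IsBaseChange ((An.anSpace X).presheaf.stalk x) (anStalkL M x)
  refine IsBaseChange.of_lift_unique _ fun Q _ _ _ _ l => ?_
  letI : AddCommGroup Q := Module.addCommMonoidToAddCommGroup ((An.anSpace X).presheaf.stalk x)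
  let adj := An.analytifyAdj X
  let T := asky x Q
  let ψ0 : M ⟶ (An.anPush X).obj T :=
    { val := PresheafOfModules.homMk
        { app := fun U => AddCommGrpCat.ofHom
            (show Γ(M, U.unop) →+ ASkyObj x Q ((An.baseF X).obj U.unop) from
            { toFun := fun m h => l (M.presheaf.germ U.unop (Pts.pt x) h.down m)
              map_zero' := funext fun h => by rw [map_zero, map_zero]; rfl
              map_add' := fun a b => funext fun h => by
                show l (M.presheaf.germ U.unop (Pts.pt x) h.down (a + b)) = _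
                rw [map_add, map_add]
                rfl })
          naturality := fun U V i => by
            ext m
            funext h
            show l (M.presheaf.germ V.unop (Pts.pt x) h.down (M.presheaf.map i.unop.op m)) =
              l (M.presheaf.germ U.unop (Pts.pt x) (i.unop.le h.down) m)
            rw [M.presheaf.germ_res_apply] }
        fun U (r : Γ(X, U.unop)) (m : Γ(M, U.unop)) => funext fun h => by
          show l (M.presheaf.germ U.unop (Pts.pt x) h.down (r • m)) =
            gH x ((An.baseF X).obj U.unop) h.down ((An.toHolApp U.unop).hom r) •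
              l (M.presheaf.germ U.unop (Pts.pt x) h.down m)
          refine Eq.trans ?_ (congrArg (· • l (M.presheaf.germ U.unop (Pts.pt x) h.down m)) (phi_germ x U.unop h.down r))
          rw [show phi x ((X.presheaf.germ U.unop (Pts.pt x) h.down).hom r) =
            algebraMap (X.presheaf.stalk (Pts.pt x)) ((An.anSpace X).presheaf.stalk x)
              ((X.presheaf.germ U.unop (Pts.pt x) h.down).hom r) from rfl, algebraMap_smul, ← map_smul]
          exact congrArg l (PresheafOfModules.germ_smul (R := X.presheaf) M.val (Pts.pt x) U.unop h.down r m) }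
  have key : ∀ (Ψ : anOb M ⟶ T) (U : X.Opens) (hx : (Pts.pt x) ∈ U) (m : Γ(M, U)),
      aofSky Ψ (anStalkL M x (M.presheaf.germ U (Pts.pt x) hx m)) =
        (show ASkyObj x Q ((An.baseF X).obj U) from ((adj.homEquiv M T Ψ).val.app (op U)).hom m) ⟨hx⟩ := by
    intro Ψ U hx m
    refine (congrArg (aofSky Ψ) (anStalk_germ M x U hx m)).trans ?_
    refine (aofSky_germ Ψ _ hx _).trans ?_
    rw [Adjunction.homEquiv_unit]
    rfl
  refine ⟨aofSky ((adj.homEquiv M T).symm ψ0), LinearMap.ext fun z => ?_, fun L hL => ?_⟩
  · obtain ⟨U, hx, m, rfl⟩ := TopCat.Presheaf.exists_germ_eq M.presheaf z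
    refine (key _ U hx m).trans ?_
    rw [Equiv.apply_symm_apply]
    rfl
  · have h0 : adj.homEquiv M T (atoSky L) = ψ0 := by
      refine Scheme.Modules.hom_ext _ _ fun U => ?_
      refine AddCommGrpCat.hom_ext (AddMonoidHom.ext fun m => ?_)
      show (show ASkyObj x Q ((An.baseF X).obj U) from ((adj.homEquiv M T (atoSky L)).val.app (op U)).hom m) = _
      funext h
      refine (key (atoSky L) U h.down m).symm.trans ?_
      have hL' : aofSky (atoSky L) = L := LinearMap.ext fun w => by
        obtain ⟨V, hV, w, rfl⟩ := TopCat.Presheaf.exists_germ_eq (F := aP (anOb M)) w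
        exact aofSky_germ (atoSky L) V hV w
      rw [hL']
      exact LinearMap.congr_fun hL _
    rw [← h0, Equiv.symm_apply_apply]
    refine LinearMap.ext fun w => ?_
    obtain ⟨V, hV, w, rfl⟩ := TopCat.Presheaf.exists_germ_eq (F := aP (anOb M)) w
    exact (aofSky_germ (atoSky L) V hV w).symm

theorem anStalk_natural {M N : X.Modules} (φ : M ⟶ N) (x : (An.top X : Type)) (z : M.presheaf.stalk (Pts.pt x)) :
    aStalk ((An.analytify X).map φ) x (anStalk M x z) = anStalk N x (PullbackMod.stalkLin φ (Pts.pt x) z) := by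
  obtain ⟨U, hx, m, rfl⟩ := TopCat.Presheaf.exists_germ_eq M.presheaf z
  rw [anStalk_germ, aStalk_germ, PullbackMod.stalkLin_germ, anStalk_germ]
  exact congrArg ((aP (anOb N)).germ ((An.baseF X).obj U) x hx)
    (ConcreteCategory.congr_hom (congrArg (fun ψ : M ⟶ _ => ψ.val.app (op U))
      ((An.analytifyAdj X).unit.naturality φ)) m).symm

theorem exists_aStalk_square {M N : X.Modules} (φ : M ⟶ N) (x : (An.top X : Type)) :
    letI := (phi x).toAlgebra
    ∃ (a : (An.anSpace X).presheaf.stalk x ⊗[X.presheaf.stalk (Pts.pt x)] M.presheaf.stalk (Pts.pt x)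
        ≃ₗ[(An.anSpace X).presheaf.stalk x] (aP (anOb M)).stalk x)
      (b : (An.anSpace X).presheaf.stalk x ⊗[X.presheaf.stalk (Pts.pt x)] N.presheaf.stalk (Pts.pt x)
        ≃ₗ[(An.anSpace X).presheaf.stalk x] (aP (anOb N)).stalk x),
      ∀ z, aStalk ((An.analytify X).map φ) x (a z) =
        b ((PullbackMod.stalkLin φ (Pts.pt x)).lTensor ((An.anSpace X).presheaf.stalk x) z) := by
  letI := (phi x).toAlgebra
  letI := Module.compHom ((aP (anOb M)).stalk x) (phi x)
  letI := Module.compHom ((aP (anOb N)).stalk x) (phi x)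
  haveI : IsScalarTower (X.presheaf.stalk (Pts.pt x)) ((An.anSpace X).presheaf.stalk x) ((aP (anOb M)).stalk x) :=
    .of_algebraMap_smul fun _ _ => rfl
  haveI : IsScalarTower (X.presheaf.stalk (Pts.pt x)) ((An.anSpace X).presheaf.stalk x) ((aP (anOb N)).stalk x) :=
    .of_algebraMap_smul fun _ _ => rfl
  refine ⟨(isBaseChange_anStalkL M x).equiv, (isBaseChange_anStalkL N x).equiv, fun z => ?_⟩
  induction z with
  | zero => simp
  | add p q hp hq => simp only [map_add, hp, hq]
  | tmul b m =>
    rw [LinearMap.lTensor_tmul, IsBaseChange.equiv_tmul, IsBaseChange.equiv_tmul, map_smul]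
    exact congrArg (b • ·) (anStalk_natural φ x m)

end

end Groth.Agent.AnStalkLib
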