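import Groth.Agent.AnStalkLib.Transfer
import Groth.Agent.FlatLocus.Scheme
import Groth.Agent.FlatLocus.PointScheme

/-! Morphisms: the analytic stalk map against the algebraic one, and detection at complex points. -/

set_option autoImplicit false
set_option backward.isDefEq.respectTransparency false
set_option backward.isDefEq.respectTransparency.types false

open AlgebraicGeometry CategoryTheory TopologicalSpace Opposite Topology Filter

namespace Groth.Agent.AnStalkLib

open An An.Pts Groth.Agent.AnPts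

noncomputable section

variable {X Y : Scheme.{0}} [X.Over SC] [Y.Over SC] (f : X ⟶ Y) [f.IsOver SC] (x : Pts X)

/-- The algebraic map on stalks at a complex point. -/
abbrev fR : Y.presheaf.stalk (Pts.map f x).pt →+* X.presheaf.stalk x.pt := (f.stalkMap x.pt).hom

/-- The analytic map on stalks. -/
abbrev gS : (An.anSpace Y).presheaf.stalk (Pts.map f x) →+* (An.anSpace X).presheaf.stalk x :=
  (PresheafedSpace.Hom.stalkMap (An.anMap f) x).hom

/-- The analytic map on stalks is composition with the map on points. -/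
theorem germFun_gS (σ : (An.anSpace Y).presheaf.stalk (Pts.map f x)) (G : Pts Y → ℂ)
    (hG : germFun (Pts.map f x) σ = ↑G) : germFun x (gS f x σ) = ↑(fun y => G (Pts.map f y)) := by
  obtain ⟨V, hV, g, rfl⟩ := TopCat.Presheaf.exists_germ_eq (F := (An.anSpace Y).presheaf) σ
  rw [germFun_germ, Germ.coe_eq] at hG
  have h1 := ConcreteCategory.congr_hom (PresheafedSpace.stalkMap_germ (An.anMap f) V x hV) g
  simp only [CategoryTheory.comp_apply] at h1
  refine (congrArg (germFun x) h1).trans ((germFun_germ x _ hV _).trans (Germ.coe_eq.2 ?_))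
  filter_upwards [(V.2.preimage (Pts.continuous_map f)).mem_nhds hV,
    (Pts.continuous_map f).continuousAt.eventually hG] with y hy hy'
  exact (ext0_of_mem (X := X) (V := (Opens.map (An.topMap f)).obj V) _ hy).trans
    ((ext0_of_mem (X := Y) (V := V) g.1 (show Pts.map f y ∈ V from hy)).symm.trans hy')

theorem square : (phi x).comp (fR f x) = (gS f x).comp (phi (Pts.map f x)) := by
  refine RingHom.ext fun a => germFun_injective x ?_
  obtain ⟨W, hW, s, rfl⟩ := TopCat.Presheaf.exists_germ_eq (F := Y.presheaf) a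
  have hW' : x.pt ∈ f ⁻¹ᵁ W := hW
  rw [RingHom.comp_apply, RingHom.comp_apply, germFun_gS f x _ _ (germFun_phi_germ (Pts.map f x) W hW s)]
  refine (congrArg (fun t => germFun x (phi x t)) (Scheme.Hom.germ_stalkMap_apply f W x.pt hW' s)).trans ?_
  refine (germFun_phi_germ x (f ⁻¹ᵁ W) hW' _).trans (Germ.coe_eq.2 ?_)
  filter_upwards [(isOpen_preimage_pt (f ⁻¹ᵁ W)).mem_nhds hW'] with y hy
  have hy2 : (Pts.map f y).pt ∈ W := hy
  rw [evExt_of_mem _ hy, evExt_of_mem _ hy2, Pts.ev_map f y W hy2 s]

theorem fR_cst (c : ℂ) : fR f x (cst (Pts.map f x) c) = cst x c := by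
  show (f.stalkMap x.pt).hom ((Y.presheaf.germ ⊤ (Pts.map f x).pt trivial).hom (strHom Y c)) = _
  refine (Scheme.Hom.germ_stalkMap_apply f ⊤ x.pt trivial _).trans ?_
  have h : f.app ⊤ (strHom Y c) = strHom X c := by
    simp only [strHom, RingHom.comp_apply]
    show (f.appTop) ((Y ↘ SC).appTop _) = _
    rw [← CategoryTheory.comp_apply, ← Scheme.Hom.comp_appTop]
    simp only [comp_over f SC]
  show (X.presheaf.germ (f ⁻¹ᵁ ⊤) x.pt trivial).hom (f.app ⊤ (strHom Y c)) = _
  rw [h]
  rfl

theorem map_le_maximal :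
    (IsLocalRing.maximalIdeal (Y.presheaf.stalk (Pts.map f x).pt)).map (fR f x) ≤
      IsLocalRing.maximalIdeal (X.presheaf.stalk x.pt) := by
  haveI : IsLocalHom (fR f x) := inferInstanceAs (IsLocalHom (f.stalkMap x.pt).hom)
  exact ((IsLocalRing.local_hom_TFAE (fR f x)).out 0 2).mp ‹IsLocalHom (fR f x)›

variable [LocallyOfFiniteType (X ↘ SC)] [LocallyOfFiniteType (Y ↘ SC)]

theorem formallyUnramified_stalk_iff :
    (fR f x).FormallyUnramified ↔ (IsLocalRing.maximalIdeal (Y.presheaf.stalk (Pts.map f x).pt)).map (fR f x) =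
      IsLocalRing.maximalIdeal (X.presheaf.stalk x.pt) := by
  haveI := AnPts.locallyOfFiniteType_of_isOver f
  letI := (fR f x).toAlgebra
  haveI hl : IsLocalHom (algebraMap (Y.presheaf.stalk (Pts.map f x).pt) (X.presheaf.stalk x.pt)) :=
    inferInstanceAs (IsLocalHom (f.stalkMap x.pt).hom)
  haveI : Algebra.EssFiniteType (Y.presheaf.stalk (Pts.map f x).pt) (X.presheaf.stalk x.pt) :=
    RingHom.essFiniteType_algebraMap.mp (LocallyOfFiniteType.stalkMap f x.pt)
  refine (Algebra.FormallyUnramified.iff_map_maximalIdeal_eq).trans ⟨fun h => h.2, fun h => ⟨⟨fun z => ?_⟩, h⟩⟩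
  obtain ⟨a, rfl⟩ := IsLocalRing.residue_surjective z
  have hc : a - cst x (evS x (phi x a)) ∈ IsLocalRing.maximalIdeal (X.presheaf.stalk x.pt) := by
    rw [maximalIdeal_eq_ker_evR, RingHom.mem_ker, RingHom.comp_apply, map_sub, map_sub, evS_cst, sub_self]
  rw [show IsLocalRing.residue _ a = algebraMap (IsLocalRing.ResidueField (Y.presheaf.stalk (Pts.map f x).pt))
      (IsLocalRing.ResidueField (X.presheaf.stalk x.pt)) (IsLocalRing.residue _ (cst (Pts.map f x) (evS x (phi x a)))) from
    (Ideal.Quotient.eq.2 (by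
      show a - fR f x (cst (Pts.map f x) (evS x (phi x a))) ∈ IsLocalRing.maximalIdeal (X.presheaf.stalk x.pt)
      rw [fR_cst]
      exact hc))]
  exact isSeparable_algebraMap _

omit [LocallyOfFiniteType (Y ↘ SC)] in
theorem eq_univ_of_pts {U : Set X} (hU : IsOpen U) (h : ∀ a : Pts X, a.pt ∈ U) (y : X) : y ∈ U := by
  by_contra hy
  obtain ⟨a, ha⟩ := exists_pts_mem (Z := Uᶜ) hU.isClosed_compl.isLocallyClosed ⟨y, hy⟩
  exact ha (h a)

theorem flat_iff_pts : Flat f ↔ ∀ a : Pts X, (fR f a).Flat := by
  refine ⟨fun _ a => Flat.stalkMap f a.pt, fun h => ?_⟩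
  haveI := AnPts.locallyOfFiniteType_of_isOver f
  haveI := LocallyOfFiniteType.isLocallyNoetherian (Y ↘ SC)
  haveI : LocallyOfFinitePresentation f := LocallyOfFinitePresentation.iff_locallyOfFiniteType.mpr inferInstance
  exact Flat.of_stalkMap f fun y => eq_univ_of_pts (FlatLocus.isOpen_flat_stalkMap f) h y

theorem formallyUnramified_iff_pts :
    FormallyUnramified f ↔ ∀ a : Pts X, (fR f a).FormallyUnramified := by
  refine ⟨fun _ a => FormallyUnramified.stalkMap f a.pt, fun h => ?_⟩
  haveI := AnPts.locallyOfFiniteType_of_isOver f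
  exact HasRingHomProperty.of_stalkMap (P := @FormallyUnramified) RingHom.FormallyUnramified.ofLocalizationPrime
    fun y => eq_univ_of_pts (FlatLocus.isOpen_formallyUnramified_stalkMap f) h y

variable [IsReduced X] [IsReduced Y]

theorem flat_gS_iff : (gS f x).Flat ↔ (fR f x).Flat := by
  haveI : IsLocalHom (fR f x) := inferInstanceAs (IsLocalHom (f.stalkMap x.pt).hom)
  exact flat_iff_of_square (sameCompl (Pts.map f x)) (sameCompl x) (square f x)

theorem map_max_gS_iff :
    (IsLocalRing.maximalIdeal ((An.anSpace Y).presheaf.stalk (Pts.map f x))).map (gS f x) =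
        IsLocalRing.maximalIdeal ((An.anSpace X).presheaf.stalk x) ↔
      (IsLocalRing.maximalIdeal (Y.presheaf.stalk (Pts.map f x).pt)).map (fR f x) =
        IsLocalRing.maximalIdeal (X.presheaf.stalk x.pt) :=
  map_max_eq_iff_of_square (sameCompl (Pts.map f x)) (sameCompl x) (square f x)

theorem isLocalHom_gS : IsLocalHom (gS f x) :=
  ((IsLocalRing.local_hom_TFAE (gS f x)).out 0 2).mpr
    (map_max_le_of_square (sameCompl (Pts.map f x)) (sameCompl x) (square f x) (map_le_maximal f x))

end

end Groth.Agent.AnStalkLib
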