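import Groth.Prelude.Def_AnHol
import Groth.Agent.AnPts.Basic
import Groth.Agent.AnPts.Imm

/-! The stalk of holomorphic functions inside the germs of functions on the space of complex points. -/

set_option autoImplicit false
set_option backward.isDefEq.respectTransparency false
set_option backward.isDefEq.respectTransparency.types false

open AlgebraicGeometry CategoryTheory CategoryTheory.Limits TopologicalSpace Opposite Topology Filter

namespace Groth.Agent.AnStalkLib

open An An.Pts Groth.Agent.AnPts

noncomputable section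

variable {X : Scheme.{0}} [X.Over SC]

open Classical in
/-- A function on an open set, extended by zero. -/
def ext0 {V : Opens (An.top X)} (f : V → ℂ) (y : Pts X) : ℂ := if h : y ∈ V then f ⟨y, h⟩ else 0

theorem ext0_of_mem {V : Opens (An.top X)} (f : V → ℂ) {y : Pts X} (h : y ∈ V) : ext0 f y = f ⟨y, h⟩ := dif_pos h

/-- The germ of a holomorphic function as a germ of functions. -/
def toGermHom (x : Pts X) (V : Opens (An.top X)) (hV : x ∈ V) : (An.holSub V) →+* Germ (𝓝 x) ℂ where
  toFun f := ↑(ext0 f.1)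
  map_one' := Germ.coe_eq.2 (eventually_of_mem (V.2.mem_nhds hV) fun _ hy => ext0_of_mem _ hy)
  map_mul' f g := Germ.coe_eq.2 (eventually_of_mem (V.2.mem_nhds hV) fun y hy => by
    simp only [ext0_of_mem _ hy, Pi.mul_apply]
    rfl)
  map_zero' := Germ.coe_eq.2 (eventually_of_mem (V.2.mem_nhds hV) fun _ hy => ext0_of_mem _ hy)
  map_add' f g := Germ.coe_eq.2 (eventually_of_mem (V.2.mem_nhds hV) fun y hy => by
    simp only [ext0_of_mem _ hy, Pi.add_apply]
    rfl)

/-- The cocone of germs of functions. -/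
def germCocone (x : Pts X) : Cocone ((OpenNhds.inclusion (X := An.top X) x).op ⋙ An.holPresheaf X) where
  pt := CommRingCat.of (Germ (𝓝 x) ℂ)
  ι :=
    { app := fun U => CommRingCat.ofHom (toGermHom x U.unop.1 U.unop.2)
      naturality := fun U U' i => by
        refine CommRingCat.hom_ext (RingHom.ext fun f => Germ.coe_eq.2 ?_)
        refine eventually_of_mem (U'.unop.1.2.mem_nhds U'.unop.2) fun y hy => ?_
        show ext0 _ y = ext0 _ y
        rw [ext0_of_mem _ hy, ext0_of_mem _ (leOfHom i.unop hy)]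
        rfl }

/-- The stalk of holomorphic functions mapped to germs of functions. -/
def germFun (x : Pts X) : (An.anSpace X).presheaf.stalk x →+* Germ (𝓝 x) ℂ :=
  (colimit.desc _ (germCocone x)).hom

theorem germFun_germ (x : Pts X) (V : Opens (An.top X)) (hV : x ∈ V) (f : An.holSub V) :
    germFun x (((An.anSpace X).presheaf.germ V x hV).hom f) = ↑(ext0 f.1) :=
  ConcreteCategory.congr_hom (colimit.ι_desc (germCocone x) (op ⟨V, hV⟩)) f

theorem germFun_injective (x : Pts X) : Function.Injective (germFun x) := by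
  intro a b hab
  obtain ⟨U, hU, f, rfl⟩ := TopCat.Presheaf.exists_germ_eq (F := (An.anSpace X).presheaf) a
  obtain ⟨V, hV, g, rfl⟩ := TopCat.Presheaf.exists_germ_eq (F := (An.anSpace X).presheaf) b
  rw [germFun_germ x U hU f, germFun_germ x V hV g, Germ.coe_eq] at hab
  obtain ⟨W₀, hW₀, hW₀o, hxW₀⟩ := _root_.eventually_nhds_iff.1 hab
  let W : Opens (An.top X) := ⟨W₀, hW₀o⟩ ⊓ U ⊓ V
  refine TopCat.Presheaf.germ_ext _ W ⟨⟨hxW₀, hU⟩, hV⟩ (homOfLE fun y hy => hy.1.2) (homOfLE fun y hy => hy.2) ?_
  refine Subtype.ext (funext fun y => ?_)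
  have h := hW₀ y.1 y.2.1.1
  rw [ext0_of_mem _ y.2.1.2, ext0_of_mem _ y.2.2] at h
  exact h

/-- The map on stalks of `X^an → X`. -/
abbrev phi (x : Pts X) : X.presheaf.stalk x.pt →+* (An.anSpace X).presheaf.stalk x :=
  (PresheafedSpace.Hom.stalkMap (An.anToScheme X) x).hom

open Classical in
/-- A regular function as a function on complex points. -/
def evExt (W : X.Opens) (f : Γ(X, W)) (y : Pts X) : ℂ := if h : y.pt ∈ W then y.ev W h f else 0

theorem evExt_of_mem {W : X.Opens} (f : Γ(X, W)) {y : Pts X} (h : y.pt ∈ W) : evExt W f y = y.ev W h f := dif_pos h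

theorem germFun_phi_germ (x : Pts X) (W : X.Opens) (hW : x.pt ∈ W) (f : Γ(X, W)) :
    germFun x (phi x ((X.presheaf.germ W x.pt hW).hom f)) = ↑(evExt W f) := by
  have h1 := ConcreteCategory.congr_hom (PresheafedSpace.stalkMap_germ (An.anToScheme X) W x hW) f
  simp only [CategoryTheory.comp_apply] at h1
  refine (congrArg (germFun x) h1).trans ((germFun_germ x _ hW _).trans (Germ.coe_eq.2 ?_))
  refine eventually_of_mem ((isOpen_preimage_pt W).mem_nhds hW) fun y hy => ?_
  rw [ext0_of_mem _ hy, evExt_of_mem f hy]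
  rfl

/-- The value of a germ at the point. -/
def evS (x : Pts X) : (An.anSpace X).presheaf.stalk x →+* ℂ := Germ.valueRingHom.comp (germFun x)

theorem evS_phi_germ (x : Pts X) (W : X.Opens) (hW : x.pt ∈ W) (f : Γ(X, W)) :
    evS x (phi x ((X.presheaf.germ W x.pt hW).hom f)) = x.ev W hW f := by
  show Germ.value (germFun x (phi x ((X.presheaf.germ W x.pt hW).hom f))) = _
  rw [germFun_phi_germ x W hW f]
  exact evExt_of_mem f hW

/-- The constant germs. -/
def cst (x : Pts X) : ℂ →+* X.presheaf.stalk x.pt := (X.presheaf.germ ⊤ x.pt trivial).hom.comp (strHom X)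

theorem evS_cst (x : Pts X) (c : ℂ) : evS x (phi x (cst x c)) = c :=
  (evS_phi_germ x ⊤ trivial _).trans (evTop_strHom x c)

theorem maximalIdeal_eq_ker_evR (x : Pts X) :
    IsLocalRing.maximalIdeal (X.presheaf.stalk x.pt) = RingHom.ker ((evS x).comp (phi x)) := by
  haveI : (RingHom.ker ((evS x).comp (phi x))).IsMaximal :=
    RingHom.ker_isMaximal_of_surjective _ fun c => ⟨cst x c, evS_cst x c⟩
  exact (IsLocalRing.eq_maximalIdeal inferInstance).symm

end

end Groth.Agent.AnStalkLib
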