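import Groth.Agent.AnStalkLib.Main
import Groth.Agent.AnStalkLib.Abstract
import Groth.Agent.ExcLib.Localization
import Groth.Agent.GRingCompleteLib.Completion
import Groth.Agent.S0598
import Groth.Agent.S0599

/-! The map from the algebraic to the analytic local ring induces an isomorphism of completions. -/

set_option autoImplicit false
set_option backward.isDefEq.respectTransparency false
set_option backward.isDefEq.respectTransparency.types false

open AlgebraicGeometry CategoryTheory TopologicalSpace Opposite

namespace Groth.Agent.AnStalkLib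

open An An.Pts Groth.Agent.AnPts

noncomputable section

variable {X : Scheme.{0}} [X.Over SC] [LocallyOfFiniteType (X ↘ SC)] (x : Pts X)

instance instLocalStalk : IsLocalRing ((An.anSpace X).presheaf.stalk x) := isLocalRing_stalk x

instance instNoetherianStalk : IsNoetherianRing ((An.anSpace X).presheaf.stalk x) := isNoetherianRing_stalk x

theorem isNoetherianRing_schemeStalk : IsNoetherianRing (X.presheaf.stalk x.pt) := by
  haveI := LocallyOfFiniteType.isLocallyNoetherian (X ↘ SC)
  infer_instance

instance instNoetherianSchemeStalk : IsNoetherianRing (X.presheaf.stalk x.pt) := isNoetherianRing_schemeStalk x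

theorem mS_eq_maximalIdeal : mS x = IsLocalRing.maximalIdeal ((An.anSpace X).presheaf.stalk x) :=
  IsLocalRing.eq_maximalIdeal (isMaximal_mS x)

theorem sameCompl [IsReduced X] : SameCompl (phi x) where
  map_max := mS_eq_maximalIdeal x
  approx n b := by rw [← mS_eq_maximalIdeal]; exact exists_sub_mem_pow x n b
  inj n a h := by rw [← mS_eq_maximalIdeal] at h; exact mem_pow_of_phi_mem x n a h

theorem isGRing_complex : CAlg.IsGRing ℂ := by
  haveI : IsAdicComplete (IsLocalRing.maximalIdeal ℂ) ℂ := by
    rw [IsLocalRing.maximalIdeal_eq_bot]; infer_instance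
  exact Groth.Agent.S0598.result ℂ

theorem isGRing_stalk : CAlg.IsGRing (X.presheaf.stalk x.pt) := by
  obtain ⟨U, hxU, -, hU⟩ := exists_affine_chart (U := ⊤) x trivial
  letI : Algebra ℂ Γ(X, U) := (strOn U).toAlgebra
  haveI : Algebra.FiniteType ℂ Γ(X, U) := finiteType_strOn hU
  letI : Algebra Γ(X, U) (X.presheaf.stalk x.pt) := TopCat.Presheaf.algebra_section_stalk X.presheaf ⟨x.pt, hxU⟩
  haveI : IsLocalization.AtPrime (X.presheaf.stalk x.pt) (hU.primeIdealOf ⟨x.pt, hxU⟩).asIdeal :=
    hU.isLocalization_stalk ⟨x.pt, hxU⟩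
  exact ExcLib.isGRing_of_isLocalization (hU.primeIdealOf ⟨x.pt, hxU⟩).asIdeal.primeCompl
    (Groth.Agent.S0599.result ℂ isGRing_complex Γ(X, U))

theorem isRegularHom_cpl : CAlg.IsRegularHom (X.presheaf.stalk x.pt) (EGA4.Cpl (X.presheaf.stalk x.pt)) :=
  GRingCompleteLib.isRegularHom_adicCompletion _ (isGRing_stalk x) _

end

end Groth.Agent.AnStalkLib
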